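import Cfsg.Agent.SporadicA.GolayBase
import Cfsg.Agent.CoOneType.SignFacts
import Cfsg.Agent.SporadicA.M24Frames
import Cfsg.Agent.CoOneType.CoOneE
import Mathlib
import Cfsg.Agent.KFacts.MulDef

-- merged: Cfsg.Agent.KFacts.MulY.OctadGen
section

/-!
# Generation of the octads of the Golay code from a basis by sums of octads (helper249)

`octad_induction`: a property of code words (given by their indices) that holds for the twelve basis octads and passes
from two octads to their sum, if the sum is an octad, holds for all octads.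
-/

set_option autoImplicit false
set_option Elab.async false
open Cfsg

namespace Cfsg.Agent.KFacts.MulY.OctadGen

open Cfsg.Agent.SporadicA.GolayBase
open Cfsg.Agent.CoOneType.SignFacts

/-- The code word of index `i`. -/
def cw (i : ℕ) : golayCode := ⟨word (enc i), enc_mem i⟩

theorem cw_xor (i j : ℕ) : cw (i ^^^ j) = cw i + cw j := by
  apply Subtype.ext
  show word (enc (i ^^^ j)) = word (enc i) + word (enc j)
  rw [enc_xor, word_xor]

theorem wt_cw (i : ℕ) : wt (cw i) = popcount (enc i) := by
  unfold wt sup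
  show (support₂ (word (enc i))).card = _
  rw [support₂_word, card_fin]

theorem exists_cw (c : golayCode) : ∃ i < 4096, c = cw i := by
  refine ⟨maskW c % 4096, Nat.mod_lt _ (by norm_num), ?_⟩
  apply Subtype.ext
  show (c : GolayPt → ZMod 2) = word (enc (maskW c % 4096))
  rw [enc_mod]
  have h := (mem_golayCode_iff (c : GolayPt → ZMod 2)).1 c.2
  rw [isCode_iff] at h
  rw [h, word_maskW]

/-- Pairs of octads whose sum is an octad. -/
structure Good (c d : golayCode) : Prop where
  left : wt c = 8
  right : wt d = 8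
  add : wt (c + d) = 8

/-- The check of a step. -/
def chk (S i j : ℕ) : Bool :=
  S.testBit i && S.testBit j && Nat.beq (popcount (enc i)) 8 && Nat.beq (popcount (enc j)) 8 &&
    Nat.beq (popcount (enc (i ^^^ j))) 8

/-- The set of the indices reached. -/
def go : List (ℕ × ℕ) → ℕ → ℕ
  | [], S => S
  | (i, j) :: l, S => bif chk S i j then go l (S ||| (1 <<< (i ^^^ j))) else 0

theorem or_spec {Q : ℕ → Prop} {S n : ℕ} (hS : ∀ i, S.testBit i = true → Q i) (hn : Q n) (i : ℕ)
    (hi : (S ||| (1 <<< n)).testBit i = true) : Q i := by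
  rw [Nat.testBit_or, Bool.or_eq_true] at hi
  rcases hi with hi | hi
  · exact hS i hi
  · rw [Nat.one_shiftLeft, Nat.testBit_two_pow] at hi
    have : n = i := by simpa using hi
    exact this ▸ hn

theorem go_spec {Q : ℕ → Prop} (hQ : ∀ i j, Q i → Q j → Good (cw i) (cw j) → Q (i ^^^ j)) :
    ∀ (l : List (ℕ × ℕ)) (S : ℕ), (∀ i, S.testBit i = true → Q i) →
      ∀ i, (go l S).testBit i = true → Q i := by
  intro l
  induction l with
  | nil => exact fun S hS i hi => hS i hi
  | cons p l ih =>
    obtain ⟨a, b⟩ := p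
    intro S hS i hi
    rw [go] at hi
    cases hc : chk S a b with
    | false =>
      rw [hc, cond_false, Nat.zero_testBit] at hi
      exact absurd hi (by decide)
    | true =>
      rw [hc, cond_true] at hi
      unfold chk at hc
      simp only [Bool.and_eq_true] at hc
      obtain ⟨⟨⟨⟨h1, h2⟩, h3⟩, h4⟩, h5⟩ := hc
      refine ih _ (fun k hk => or_spec hS (hQ a b (hS a h1) (hS b h2) ⟨?_, ?_, ?_⟩) k hk) i hi
      · rw [wt_cw]; exact Nat.eq_of_beq_eq_true h3
      · rw [wt_cw]; exact Nat.eq_of_beq_eq_true h4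
      · rw [← cw_xor, wt_cw]; exact Nat.eq_of_beq_eq_true h5

/-- The steps. -/
def steps : List (ℕ × ℕ) :=
  [(2, 1), (4, 1), (4, 2), (8, 1), (8, 2), (8, 4), (16, 1), (16, 2), (16, 4), (16, 8), (32, 1), (32, 4), (32,
  8), (32, 16), (64, 1), (64, 2), (64, 4), (64, 8), (64, 32), (128, 1), (128, 2), (128, 4), (128, 8), (128,
  16), (128, 32), (128, 64), (256, 2), (256, 4), (256, 8), (256, 16), (256, 32), (256, 64), (256, 128), (512,
  1), (512, 2), (512, 8), (512, 16), (512, 32), (512, 64), (512, 128), (512, 256), (1024, 1), (1024, 2),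
  (1024, 4), (1024, 16), (1024, 32), (1024, 64), (1024, 128), (1024, 256), (1024, 512), (2048, 1), (2048, 2),
  (2048, 4), (2048, 8), (2048, 16), (2048, 32), (2048, 64), (2048, 256), (2048, 512), (2048, 1024), (3, 4),
  (3, 8), (3, 16), (3, 32), (3, 64), (3, 128), (3, 256), (3, 2048), (5, 16), (5, 32), (5, 128), (5, 256), (5,
  512), (5, 1024), (5, 2048), (6, 16), (6, 32), (6, 64), (6, 128), (6, 256), (6, 512), (6, 1024), (9, 16), (9,
  32), (9, 64), (9, 256), (9, 512), (9, 1024), (9, 2048), (9, 6), (10, 32), (10, 64), (10, 128), (10, 256),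
  (10, 512), (10, 1024), (10, 2048), (12, 16), (12, 32), (12, 64), (12, 128), (12, 256), (12, 512), (12,
  1024), (12, 2048), (17, 32), (17, 64), (17, 128), (17, 256), (17, 512), (17, 6), (18, 32), (18, 64), (18,
  128), (18, 512), (18, 1024), (18, 2048), (18, 12), (20, 64), (20, 128), (20, 256), (20, 512), (20, 2048),
  (24, 32), (24, 64), (24, 256), (24, 512), (24, 1024), (24, 2048), (33, 256), (33, 512), (33, 1024), (33,
  2048), (33, 24), (36, 64), (36, 128), (36, 512), (36, 1024), (36, 2048), (36, 10), (36, 18), (40, 64), (40,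
  128), (40, 512), (40, 1024), (40, 18), (48, 64), (48, 128), (48, 256), (48, 512), (48, 1024), (65, 128),
  (65, 256), (65, 512), (65, 1024), (65, 2048), (65, 10), (65, 12), (65, 20), (65, 36), (65, 48), (66, 32),
  (66, 256), (66, 1024), (66, 2048), (66, 24), (66, 33), (66, 48), (68, 128), (68, 256), (68, 512), (68,
  1024), (68, 40), (68, 48), (72, 128), (72, 1024), (72, 2048), (96, 128), (96, 256), (96, 512), (96, 2048),
  (129, 256), (129, 512), (129, 1024), (129, 2048), (129, 6), (129, 12), (129, 18), (129, 20), (129, 24),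
  (129, 40), (129, 96), (130, 32), (130, 256), (130, 512), (130, 2048), (130, 20), (130, 24), (130, 33), (130,
  96), (132, 512), (132, 2048), (132, 40), (132, 72), (132, 96), (136, 256), (136, 512), (136, 1024), (136,
  2048), (136, 96), (144, 64), (144, 256), (144, 1024), (144, 2048), (144, 66), (144, 72), (160, 256), (160,
  1024), (160, 2048), (192, 512), (192, 1024), (192, 2048), (258, 32), (258, 512), (258, 1024), (258, 17),
  (258, 24), (258, 33), (258, 36), (258, 40), (258, 48), (258, 68), (258, 136), (258, 192), (260, 512), (260,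
  1024), (260, 2048), (260, 9), (260, 24), (260, 33), (260, 40), (260, 48), (260, 65), (260, 129), (260, 160),
  (260, 192), (264, 512), (264, 1024), (264, 2048), (264, 33), (264, 65), (264, 96), (264, 129), (264, 192),
  (272, 64), (272, 1024), (272, 2048), (272, 65), (272, 66), (272, 72), (272, 160), (272, 192), (288, 512),
  (288, 1024), (288, 2048), (288, 65), (288, 129), (320, 512), (320, 1024), (320, 2048), (320, 129), (384,
  512), (384, 1024), (384, 2048), (513, 256), (513, 1024), (513, 6), (513, 12), (513, 24), (513, 40), (513,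
  48), (513, 66), (513, 68), (513, 160), (513, 192), (513, 258), (513, 260), (513, 272), (514, 32), (514,
  1024), (514, 2048), (514, 12), (514, 33), (514, 36), (514, 68), (514, 72), (514, 96), (514, 136), (514,
  160), (514, 192), (514, 264), (514, 272), (514, 384), (520, 1024), (520, 48), (520, 68), (520, 144), (520,
  320), (520, 384), (528, 64), (528, 1024), (528, 2048), (528, 36), (528, 66), (528, 68), (528, 72), (528,
  132), (528, 160), (528, 192), (528, 260), (528, 320), (528, 384), (544, 2048), (544, 132), (544, 260), (544,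
  320), (576, 1024), (576, 2048), (640, 1024), (640, 2048), (640, 260), (768, 2048), (1025, 256), (1025,
  2048), (1025, 10), (1025, 12), (1025, 18), (1025, 20), (1025, 24), (1025, 36), (1025, 96), (1025, 130),
  (1025, 136), (1025, 192), (1025, 258), (1025, 264), (1025, 272), (1025, 514), (1025, 576), (1025, 640),
  (1025, 768), (1026, 32), (1026, 2048), (1026, 12), (1026, 24), (1026, 33), (1026, 40), (1026, 68), (1026,
  96), (1026, 132), (1026, 136), (1026, 160), (1026, 192), (1026, 260), (1026, 320), (1026, 528), (1026, 544),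
  (1028, 512), (1028, 2048), (1028, 24), (1028, 48), (1028, 136), (1028, 144), (1028, 320), (1028, 384),
  (1028, 520), (1028, 528), (1028, 544), (1028, 640), (1028, 768), (1040, 64), (1040, 2048), (1040, 65),
  (1040, 68), (1040, 72), (1040, 96), (1040, 136), (1040, 160), (1040, 288), (1040, 384), (1040, 768), (1056,
  2048), (1056, 72), (1056, 264), (1056, 384), (1056, 520), (1056, 576), (1056, 640), (1056, 768), (1088,
  264), (1088, 520), (1088, 640), (1152, 2048), (1280, 520), (1536, 2048), (2049, 256), (2049, 10), (2049,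
  36), (2049, 48), (2049, 66), (2049, 68), (2049, 72), (2049, 136), (2049, 144), (2049, 160), (2049, 258),
  (2049, 272), (2049, 384), (2049, 514), (2049, 520), (2049, 528), (2049, 640), (2049, 768), (2049, 1028),
  (2049, 1040), (2049, 1056), (2049, 1280), (2050, 32), (2050, 12), (2050, 36), (2050, 40), (2050, 48), (2050,
  68), (2050, 72), (2050, 132), (2050, 160), (2050, 192), (2050, 260), (2050, 272), (2050, 288), (2050, 384),
  (2050, 528), (2050, 1040), (2050, 1152), (2050, 1280), (2050, 1536), (2052, 512), (2052, 24), (2052, 48),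
  (2052, 192), (2052, 264), (2052, 272), (2052, 384), (2052, 513), (2052, 514), (2052, 520), (2052, 576),
  (2052, 640), (2052, 1056), (2052, 1088), (2052, 1152), (2056, 1024), (2056, 48), (2056, 144), (2056, 160),
  (2056, 272), (2056, 288), (2056, 544), (2056, 576), (2056, 640), (2056, 1056), (2056, 1088), (2056, 1152),
  (2056, 1280), (2056, 1536), (2064, 64), (2064, 65), (2064, 68), (2064, 96), (2064, 160), (2064, 192), (2064,
  640), (2064, 1088), (2064, 1536), (2080, 320), (2080, 576), (2080, 640), (2080, 768), (2080, 1088), (2112,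
  384), (2112, 768), (2112, 1152), (2112, 1280), (2304, 1152), (2304, 1536), (7, 40), (7, 96), (7, 192), (7,
  264), (7, 1088), (7, 1536), (7, 2064), (7, 2304), (7, 3072), (11, 160), (11, 192), (11, 272), (11, 528),
  (11, 640), (11, 1536), (11, 2064), (19, 576), (19, 640), (19, 1056), (19, 1088), (19, 2080), (35, 2560),
  (67, 384), (67, 768), (67, 3072), (131, 1280), (131, 2560), (131, 3072), (21, 40), (21, 72), (21, 160), (21,
  288), (21, 1280), (21, 1536), (21, 2056), (21, 2560), (37, 576), (37, 640), (37, 1152), (37, 2056), (133,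
  520), (133, 1088), (133, 1280), (133, 2056), (133, 2112), (261, 2112), (1029, 72), (22, 72), (22, 384), (22,
  520), (22, 768), (22, 1056), (22, 1280), (22, 2112), (22, 3072), (38, 384), (38, 1152), (38, 2112), (70,
  136), (70, 264), (70, 640), (134, 264), (134, 1536), (134, 2056), (262, 2560), (1030, 2056), (25, 192), (25,
  384), (25, 3072), (41, 576), (41, 1088), (41, 1152), (41, 2112), (41, 2304), (73, 640), (73, 768), (265,
  2560), (521, 3072), (42, 144), (42, 320), (42, 576), (42, 2560), (74, 1152), (74, 1536), (74, 2304), (138,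
  2064), (266, 1040), (266, 2560), (266, 3072), (522, 2064), (28, 160), (28, 384), (28, 640), (28, 1056), (44,
  768), (44, 1280), (44, 2112), (44, 2560), (76, 768), (76, 2304), (76, 3072), (140, 1280), (49, 192), (49,
  1152), (49, 1536), (49, 2304), (49, 518), (49, 74), (81, 2560), (81, 262), (145, 768), (145, 1536), (145,
  3072), (273, 524), (50, 640), (50, 768), (82, 1152), (82, 2304), (146, 1280), (146, 1536), (146, 2304), (84,
  288), (84, 384), (84, 1152), (148, 2080), (148, 3072), (276, 3072), (532, 2080), (56, 320), (56, 384), (56,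
  768), (56, 2112), (56, 3072), (88, 2560), (280, 1536), (280, 2560), (536, 1152), (289, 640), (289, 1088),
  (289, 1536), (289, 1030), (289, 522), (289, 146), (289, 1048), (545, 2112), (545, 3072), (545, 1036), (1057,
  2058), (2081, 192), (2081, 134), (100, 1152), (100, 1280), (100, 1536), (100, 2304), (100, 1034), (100,
  146), (100, 536), (164, 2304), (164, 522), (1060, 2304), (104, 640), (168, 768), (168, 1536), (168, 2304),
  (552, 1042), (112, 640), (112, 1536), (304, 2560), (304, 3072), (560, 3072), (193, 2066), (193, 532), (321,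
  3072), (321, 1034), (321, 2072), (321, 560), (577, 3072), (577, 1048), (98, 384), (98, 3072), (322, 1536),
  (322, 2560), (322, 2081), (322, 548), (322, 1072), (1090, 2560), (1090, 532), (1090, 2072), (2114, 640),
  (2114, 168), (2114, 560), (196, 768), (196, 2072), (324, 1048), (580, 3072), (200, 1280), (200, 2304), (200,
  2560), (200, 1072), (224, 768), (224, 1280), (224, 3072), (385, 518), (385, 2058), (385, 2068), (385, 108),
  (1153, 30), (1153, 2120), (386, 1536), (386, 1064), (642, 2068), (2178, 1072), (644, 1096), (644, 2144),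
  (2180, 1064), (400, 2560), (400, 1089), (400, 2144), (1184, 2560), (704, 1280), (290, 1536), (290, 3072),
  (770, 1036), (770, 216), (770, 2208), (282, 2084), (772, 3072), (772, 2081), (772, 1089), (772, 2184),
  (1284, 2057), (776, 1153), (1288, 2192), (336, 1536), (336, 3072), (2320, 580), (1312, 2177), (832, 2177),
  (896, 3072), (1537, 226), (1537, 2180), (519, 2120), (537, 2208), (1538, 2084), (1538, 2184), (1544, 2068),
  (1552, 2240), (1552, 420), (3073, 116), (3073, 786), (3074, 452), (3104, 840)]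

/-- The set of the indices of the octads. -/
def octSet : ℕ :=
  3069183258344488755150436757045500734734386707736967401854761329990245835721955998001296709449210057323895479229278706294939935881676249949233902446924732383822324106560355738967702735953610269613380027136487130419034875700417793865121874889823404120879429320528186871193649336097126642903279754481044246529424426009674377973800690446673934811672452611235162161959446408619436986189276512280313693281474502555609741965846799242144722060200390459824214473956273015046501650822469817982479986334011603346173908040965202125135931583065815048327841826723316476641892163651689288107881150851413341253892699362880046935230879716600999199497233604503187052089482540799122896359538062228311028312148824202573303076056116986357052710220562776734843547435006920133177138496353984219247467908011135954416631321008382260446387861453072834811375165422046243849637820790828433490348426656334046372602880406819188427198614575185835765609313976083539957559311665695767854714297627383243936776858768235557236472041045565260009619902082338021555814710661774232428147483760070871941990946190796662527585552861785344365668294826164368971017058922572287089721113167890236003223427155146248838345944483645086456848382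

/-- The basis octads. -/
def start : ℕ :=
  (((((((((((0 ||| 1 <<< 1) ||| 1 <<< 2) ||| 1 <<< 4) ||| 1 <<< 8) ||| 1 <<< 16) ||| 1 <<< 32) ||| 1 <<< 64) |||
    1 <<< 128) ||| 1 <<< 256) ||| 1 <<< 512) ||| 1 <<< 1024) ||| 1 <<< 2048

theorem go_steps : Nat.beq (go steps start) octSet = true := by decide +kernel

theorem octSet_all : allR 12 0 (fun i => !(Nat.beq (popcount (enc i)) 8) || octSet.testBit i) = true := by
  decide +kernel

/-- Induction over the octads. -/
theorem octad_induction {Q : ℕ → Prop} (h0 : ∀ k < 12, Q (2 ^ k))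
    (hQ : ∀ i j, Q i → Q j → Good (cw i) (cw j) → Q (i ^^^ j)) (i : ℕ) (hi : i < 4096)
    (hw : wt (cw i) = 8) : Q i := by
  have h1 : octSet.testBit i = true := by
    have h := allR_zero_spec octSet_all i hi
    rw [wt_cw] at hw
    rw [hw] at h
    simpa using h
  rw [← Nat.eq_of_beq_eq_true go_steps] at h1
  refine go_spec hQ steps start ?_ i h1
  unfold start
  have z : ∀ i, (0 : ℕ).testBit i = true → Q i := fun i hi => by
    rw [Nat.zero_testBit] at hi; exact absurd hi (by decide)
  exact or_spec (or_spec (or_spec (or_spec (or_spec (or_spec (or_spec (or_spec (or_spec (or_spec (or_spec (or_spec z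
    (h0 0 (by norm_num))) (h0 1 (by norm_num))) (h0 2 (by norm_num))) (h0 3 (by norm_num))) (h0 4 (by norm_num)))
    (h0 5 (by norm_num))) (h0 6 (by norm_num))) (h0 7 (by norm_num))) (h0 8 (by norm_num))) (h0 9 (by norm_num)))
    (h0 10 (by norm_num))) (h0 11 (by norm_num))

theorem wt_basis : ∀ k < 12, wt (cw (2 ^ k)) = 8 := by
  intro k hk
  rw [wt_cw]
  have h : ∀ k < 12, popcount (enc (2 ^ k)) = 8 := by decide +kernel
  exact h k hk

end Cfsg.Agent.KFacts.MulY.OctadGen

end

-- merged: Cfsg.Agent.KFacts.MulY.GoodTrans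
section

/-!
# Transitivity of `M24` on the pairs of octads whose sum is an octad (helper249)
-/

set_option autoImplicit false
open Cfsg

namespace Cfsg.Agent.KFacts.MulY.GoodTrans

open Cfsg.Agent.SporadicA.GolayBase
open Cfsg.Agent.SporadicA.M24Frames
open Cfsg.Agent.SporadicA.Co0Mono
open Cfsg.Agent.CoOneType.SignFacts
open Cfsg.Agent.CoOneType.CoOneE
open Cfsg.Agent.KFacts.MulY.OctadGen
open scoped Pointwise

theorem exists_frame {c d : golayCode} (h : Good c d) :
    ∃ a : Fin 7 → GolayPt, Function.Injective a ∧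
      (∀ i : Fin 7, i < 6 → a i ∈ sup c) ∧ a 6 ∉ sup c ∧
      (∀ i : Fin 7, i < 4 → a i ∈ sup d) ∧ a 6 ∈ sup d := by
  classical
  have hadd := wt_add c d
  have h1 : (sup c ∩ sup d).card = 4 := by
    have := h.left; have := h.right; have := h.add; omega
  have h2 : (sup c \ sup d).card = 4 := by
    have h3 := Finset.card_sdiff_add_card_inter (sup c) (sup d)
    have : (sup c).card = 8 := h.left
    omega
  have h3 : (sup d \ sup c).card = 4 := by
    have h3 := Finset.card_sdiff_add_card_inter (sup d) (sup c)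
    rw [Finset.inter_comm] at h3
    have : (sup d).card = 8 := h.right
    omega
  let e1 := Finset.equivFinOfCardEq h1
  let e2 := Finset.equivFinOfCardEq h2
  let e3 := Finset.equivFinOfCardEq h3
  let a1 : Fin 4 → GolayPt := fun i => (e1.symm i : GolayPt)
  let a2 : Fin 4 → GolayPt := fun i => (e2.symm i : GolayPt)
  let a3 : Fin 4 → GolayPt := fun i => (e3.symm i : GolayPt)
  have m1 : ∀ i, a1 i ∈ sup c ∧ a1 i ∈ sup d := fun i => Finset.mem_inter.1 (e1.symm i).2
  have m2 : ∀ i, a2 i ∈ sup c ∧ a2 i ∉ sup d := fun i => Finset.mem_sdiff.1 (e2.symm i).2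
  have m3 : ∀ i, a3 i ∈ sup d ∧ a3 i ∉ sup c := fun i => Finset.mem_sdiff.1 (e3.symm i).2
  have i1 : ∀ i j, a1 i = a1 j → i = j := fun i j hij => e1.symm.injective (Subtype.ext hij)
  have i2 : ∀ i j, a2 i = a2 j → i = j := fun i j hij => e2.symm.injective (Subtype.ext hij)
  have i12 : ∀ i j, a1 i ≠ a2 j := fun i j hij => (m2 j).2 (hij ▸ (m1 i).2)
  have i13 : ∀ i j, a1 i ≠ a3 j := fun i j hij => (m3 j).2 (hij ▸ (m1 i).1)
  have i23 : ∀ i j, a2 i ≠ a3 j := fun i j hij => (m3 j).2 (hij ▸ (m2 i).1)
  refine ⟨![a1 0, a1 1, a1 2, a1 3, a2 0, a2 1, a3 0], ?_, ?_, ?_, ?_, ?_⟩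
  · intro i j hij
    fin_cases i <;> fin_cases j <;> first | rfl | (exfalso; first
      | exact absurd (i1 _ _ hij) (by decide)
      | exact absurd (i2 _ _ hij) (by decide)
      | exact i12 _ _ hij
      | exact i12 _ _ hij.symm
      | exact i13 _ _ hij
      | exact i13 _ _ hij.symm
      | exact i23 _ _ hij
      | exact i23 _ _ hij.symm)
  · intro i hi
    fin_cases i
    · exact (m1 0).1
    · exact (m1 1).1
    · exact (m1 2).1
    · exact (m1 3).1
    · exact (m2 0).1
    · exact (m2 1).1
    · exact absurd hi (by decide)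
  · exact (m3 0).2
  · intro i hi
    fin_cases i
    · exact (m1 0).2
    · exact (m1 1).2
    · exact (m1 2).2
    · exact (m1 3).2
    · exact absurd hi (by decide)
    · exact absurd hi (by decide)
    · exact absurd hi (by decide)
  · exact (m3 0).1

theorem eq_of_five {g : Equiv.Perm GolayPt} (hg : g ∈ M24) {s t : Finset GolayPt} (hs : s ∈ octads)
    (ht : t ∈ octads) {a b : Fin 7 → GolayPt} (hb : Function.Injective b)
    (hab : ∀ i, g (a i) = b i) (I : Finset (Fin 7)) (hI : 5 ≤ I.card) (h1 : ∀ i ∈ I, a i ∈ s)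
    (h2 : ∀ i ∈ I, b i ∈ t) : g • s = t := by
  classical
  apply octad_unique (smul_mem_octads hg hs) ht
  have h3 : I.image b ⊆ g • s ∩ t := by
    intro x hx
    obtain ⟨i, hi, rfl⟩ := Finset.mem_image.1 hx
    rw [Finset.mem_inter]
    refine ⟨?_, h2 i hi⟩
    rw [← hab i]
    exact Finset.smul_mem_smul_finset (h1 i hi)
  refine le_trans hI ?_
  rw [← Finset.card_image_of_injective I hb]
  exact Finset.card_le_card h3

/-- `M24` is transitive on the good pairs. -/
theorem exists_perm {c d c' d' : golayCode} (h : Good c d) (h' : Good c' d') :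
    ∃ σ : M24, wordPerm σ c = c' ∧ wordPerm σ d = d' := by
  obtain ⟨a, ha, ha1, ha2, ha3, ha4⟩ := exists_frame h
  obtain ⟨b, hb, hb1, hb2, hb3, hb4⟩ := exists_frame h'
  have oc : sup c ∈ octads := (sup_mem_octads c).2 h.left
  have oc' : sup c' ∈ octads := (sup_mem_octads c').2 h'.left
  have od : sup d ∈ octads := (sup_mem_octads d).2 h.right
  have od' : sup d' ∈ octads := (sup_mem_octads d').2 h'.right
  obtain ⟨g, ⟨hg, hgab⟩, -⟩ := exists_unique_map a b ⟨ha, sup c, oc, ha1, ha2⟩
    ⟨hb, sup c', oc', hb1, hb2⟩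
  refine ⟨⟨g, hg⟩, ?_, ?_⟩
  · apply sup_inj
    rw [sup_wordPerm]
    exact eq_of_five hg oc oc' hb hgab (Finset.univ.filter (· < 6)) (by decide)
      (fun i hi => ha1 i (Finset.mem_filter.1 hi).2) (fun i hi => hb1 i (Finset.mem_filter.1 hi).2)
  · apply sup_inj
    rw [sup_wordPerm]
    refine eq_of_five hg od od' hb hgab (Finset.univ.filter (fun i => i < 4 ∨ i = 6)) (by decide)
      (fun i hi => ?_) (fun i hi => ?_)
    · rcases (Finset.mem_filter.1 hi).2 with h1 | rfl
      · exact ha3 i h1
      · exact ha4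
    · rcases (Finset.mem_filter.1 hi).2 with h1 | rfl
      · exact hb3 i h1
      · exact hb4

theorem wt_wordPerm (σ : M24) (c : golayCode) : wt (wordPerm σ c) = wt c := by
  unfold wt
  rw [sup_wordPerm, Finset.card_smul_finset]

theorem wordPerm_add (σ : M24) (c d : golayCode) : wordPerm σ (c + d) = wordPerm σ c + wordPerm σ d := rfl

theorem Good.perm {c d : golayCode} (h : Good c d) (σ : M24) : Good (wordPerm σ c) (wordPerm σ d) where
  left := by rw [wt_wordPerm]; exact h.left
  right := by rw [wt_wordPerm]; exact h.right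
  add := by rw [← wordPerm_add, wt_wordPerm]; exact h.add

/-- A good pair. -/
theorem good_base : Good (cw 1) (cw 2) where
  left := wt_basis 0 (by norm_num)
  right := wt_basis 1 (by norm_num)
  add := by
    rw [← cw_xor, wt_cw]
    decide +kernel

/-- Every dodecad is a sum of two octads. -/
theorem exists_octads_add {c : golayCode} (hc : wt c = 12) :
    ∃ a b : golayCode, wt a = 8 ∧ wt b = 8 ∧ c = a + b := by
  have h1 : wt (cw 1 + cw 12) = 12 := by
    rw [← cw_xor, wt_cw]
    decide +kernel
  have h2 : wt (cw 12) = 8 := by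
    rw [wt_cw]
    decide +kernel
  obtain ⟨σ, hσ⟩ := Cfsg.Agent.S0368.result _ _ ((sup_mem_dodecads _).2 h1) ((sup_mem_dodecads c).2 hc)
  rw [← sup_wordPerm] at hσ
  refine ⟨wordPerm σ (cw 1), wordPerm σ (cw 12), ?_, ?_, ?_⟩
  · rw [wt_wordPerm]; exact wt_basis 0 (by norm_num)
  · rw [wt_wordPerm]; exact h2
  · rw [← wordPerm_add]
    exact (sup_inj hσ).symm

end Cfsg.Agent.KFacts.MulY.GoodTrans

end

-- merged: Cfsg.Agent.KFacts.MulY.ClassLift
section

/-!
# Lifting a conjugacy class with perfect centralizer to a central extension (helper249)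

`π : L → K` a central extension, `a ∈ L` such that the centralizer of `π a` is perfect. Then everything over the
centralizer of `π a` commutes with `a`, so the conjugacy class of `π a` lifts bijectively: `lf π a k`.
-/

set_option autoImplicit false

namespace Cfsg.Agent.KFacts.MulY.ClassLift

open Subgroup

variable {L K : Type*} [Group L] [Group K]

/-- Central extension. -/
structure Ext (π : L →* K) : Prop where
  surj : Function.Surjective π
  cen : ∀ z : L, π z = 1 → ∀ x : L, z * x = x * z

/-- Everything over a perfect centralizer commutes with the lift. -/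
theorem commute_of_perfect {π : L →* K} (h : Ext π) (a : L)
    (hp : centralizer ({π a} : Set K) ≤ ⁅centralizer ({π a} : Set K), centralizer ({π a} : Set K)⁆)
    {g : L} (hg : π g * π a = π a * π g) : g * a = a * g := by
  set C := centralizer ({π a} : Set K) with hC
  have hmap : (C.comap π).map π = C := Subgroup.map_comap_eq_self_of_surjective h.surj C
  have h1 : π g ∈ ⁅C, C⁆ := hp (mem_centralizer_singleton_iff.2 hg)
  have h2 : (⁅C.comap π, C.comap π⁆).map π = ⁅C, C⁆ := by
    rw [Subgroup.map_commutator, hmap]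
  rw [← h2] at h1
  obtain ⟨d, hd, hdg⟩ := h1
  have h3 : ⁅C.comap π, C.comap π⁆ ≤ centralizer ({a} : Set L) := by
    rw [Subgroup.commutator_le]
    intro x hx y hy
    -- `x a x⁻¹ = ζ a`
    have hz : ∀ x ∈ C.comap π, ∀ w : L, (x * a * x⁻¹ * a⁻¹) * w = w * (x * a * x⁻¹ * a⁻¹) := by
      intro x hx
      apply h.cen
      have h4 : π x * π a = π a * π x := mem_centralizer_singleton_iff.1 hx
      rw [map_mul, map_mul, map_mul, map_inv, map_inv, h4]; group
    rw [mem_centralizer_singleton_iff, commutatorElement_def]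
    have hx' := hz x hx
    have hy' := hz y hy
    have ex : x * a * x⁻¹ = (x * a * x⁻¹ * a⁻¹) * a := by group
    have ey : y * a * y⁻¹ = (y * a * y⁻¹ * a⁻¹) * a := by group
    set u := x * a * x⁻¹ * a⁻¹ with hu
    set v := y * a * y⁻¹ * a⁻¹ with hv
    have ex' : x⁻¹ * a * x = u⁻¹ * a := by
      have : a = u * (x⁻¹ * a * x) := by
        calc a = x⁻¹ * (x * a * x⁻¹) * x := by group
          _ = x⁻¹ * (u * a) * x := by rw [ex]
          _ = x⁻¹ * (a * u) * x := by rw [hx' a]
          _ = x⁻¹ * a * (u * x) := by group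
          _ = x⁻¹ * a * (x * u) := by rw [hx' x]
          _ = (x⁻¹ * a * x) * u := by group
          _ = u * (x⁻¹ * a * x) := by rw [hx']
      rw [eq_inv_mul_iff_mul_eq]; exact this.symm
    have ey' : y⁻¹ * a * y = v⁻¹ * a := by
      have : a = v * (y⁻¹ * a * y) := by
        calc a = y⁻¹ * (y * a * y⁻¹) * y := by group
          _ = y⁻¹ * (v * a) * y := by rw [ey]
          _ = y⁻¹ * (a * v) * y := by rw [hy' a]
          _ = y⁻¹ * a * (v * y) := by group
          _ = y⁻¹ * a * (y * v) := by rw [hy' y]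
          _ = (y⁻¹ * a * y) * v := by group
          _ = v * (y⁻¹ * a * y) := by rw [hy']
      rw [eq_inv_mul_iff_mul_eq]; exact this.symm
    have hui : ∀ w : L, u⁻¹ * w = w * u⁻¹ := fun w => by
      rw [inv_mul_eq_iff_eq_mul, ← mul_assoc, hx' w, mul_inv_cancel_right]
    have hvi : ∀ w : L, v⁻¹ * w = w * v⁻¹ := fun w => by
      rw [inv_mul_eq_iff_eq_mul, ← mul_assoc, hy' w, mul_inv_cancel_right]
    have key : (x * y * x⁻¹ * y⁻¹) * a * (x * y * x⁻¹ * y⁻¹)⁻¹ = a := by
      calc (x * y * x⁻¹ * y⁻¹) * a * (x * y * x⁻¹ * y⁻¹)⁻¹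
          = x * (y * (x⁻¹ * (y⁻¹ * a * y) * x) * y⁻¹) * x⁻¹ := by group
        _ = x * (y * (x⁻¹ * (v⁻¹ * a) * x) * y⁻¹) * x⁻¹ := by rw [ey']
        _ = x * (y * ((x⁻¹ * v⁻¹) * a * x) * y⁻¹) * x⁻¹ := by group
        _ = x * (y * ((v⁻¹ * x⁻¹) * a * x) * y⁻¹) * x⁻¹ := by rw [hvi x⁻¹]
        _ = x * (y * (v⁻¹ * (x⁻¹ * a * x)) * y⁻¹) * x⁻¹ := by group
        _ = x * (y * (v⁻¹ * (u⁻¹ * a)) * y⁻¹) * x⁻¹ := by rw [ex']
        _ = x * ((y * v⁻¹) * (u⁻¹ * a) * y⁻¹) * x⁻¹ := by group
        _ = x * ((v⁻¹ * y) * (u⁻¹ * a) * y⁻¹) * x⁻¹ := by rw [hvi y]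
        _ = x * (v⁻¹ * ((y * u⁻¹) * a * y⁻¹)) * x⁻¹ := by group
        _ = x * (v⁻¹ * ((u⁻¹ * y) * a * y⁻¹)) * x⁻¹ := by rw [hui y]
        _ = x * (v⁻¹ * (u⁻¹ * (y * a * y⁻¹))) * x⁻¹ := by group
        _ = x * (v⁻¹ * (u⁻¹ * (v * a))) * x⁻¹ := by rw [ey]
        _ = x * ((v⁻¹ * u⁻¹) * v * a) * x⁻¹ := by group
        _ = x * ((u⁻¹ * v⁻¹) * v * a) * x⁻¹ := by rw [hvi u⁻¹]
        _ = (x * u⁻¹) * a * x⁻¹ := by group
        _ = (u⁻¹ * x) * a * x⁻¹ := by rw [hui x]
        _ = u⁻¹ * (x * a * x⁻¹) := by group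
        _ = u⁻¹ * (u * a) := by rw [ex]
        _ = a := by group
    exact mul_inv_eq_iff_eq_mul.1 key
  have h4 := h3 hd
  rw [mem_centralizer_singleton_iff] at h4
  have h5 := h.cen (d⁻¹ * g) (by rw [map_mul, map_inv, hdg, inv_mul_cancel])
  calc g * a = d * ((d⁻¹ * g) * a) := by group
    _ = d * (a * (d⁻¹ * g)) := by rw [h5 a]
    _ = (d * a) * (d⁻¹ * g) := by group
    _ = (a * d) * (d⁻¹ * g) := by rw [h4]
    _ = a * g := by group

open Classical in
/-- The canonical lift of the conjugates of `π a`. -/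
noncomputable def lf (π : L →* K) (a : L) (k : K) : L :=
  if h : ∃ g : L, π (g * a * g⁻¹) = k then h.choose * a * h.choose⁻¹ else 1

variable {π : L →* K} {a : L}

theorem lf_eq (hcom : ∀ g, π g * π a = π a * π g → g * a = a * g) (g : L) :
    lf π a (π (g * a * g⁻¹)) = g * a * g⁻¹ := by
  have hex : ∃ g' : L, π (g' * a * g'⁻¹) = π (g * a * g⁻¹) := ⟨g, rfl⟩
  unfold lf
  rw [dif_pos hex]
  have h1 := hex.choose_spec
  set g' := hex.choose
  have h2 : (g⁻¹ * g') * a = a * (g⁻¹ * g') := by
    apply hcom
    rw [map_mul, map_inv]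
    rw [map_mul, map_mul, map_inv, map_mul, map_mul, map_inv] at h1
    calc (π g)⁻¹ * π g' * π a = (π g)⁻¹ * (π g' * π a * (π g')⁻¹) * π g' := by group
      _ = (π g)⁻¹ * (π g * π a * (π g)⁻¹) * π g' := by rw [h1]
      _ = π a * ((π g)⁻¹ * π g') := by group
  calc g' * a * g'⁻¹ = g * ((g⁻¹ * g') * a) * g'⁻¹ := by group
    _ = g * (a * (g⁻¹ * g')) * g'⁻¹ := by rw [h2]
    _ = g * a * g⁻¹ := by group

theorem exists_of_isConj (hs : Function.Surjective π) {k : K} (hk : IsConj (π a) k) :
    ∃ g : L, π (g * a * g⁻¹) = k := by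
  obtain ⟨c, hc⟩ := isConj_iff.1 hk
  obtain ⟨g, rfl⟩ := hs c
  exact ⟨g, by rw [map_mul, map_mul, map_inv, hc]⟩

theorem map_lf (hs : Function.Surjective π) (hcom : ∀ g, π g * π a = π a * π g → g * a = a * g)
    {k : K} (hk : IsConj (π a) k) : π (lf π a k) = k := by
  obtain ⟨g, rfl⟩ := exists_of_isConj hs hk
  rw [lf_eq hcom]

theorem lf_conj (hs : Function.Surjective π) (hcom : ∀ g, π g * π a = π a * π g → g * a = a * g)
    {k : K} (hk : IsConj (π a) k) (x : L) :
    lf π a (π x * k * (π x)⁻¹) = x * lf π a k * x⁻¹ := by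
  obtain ⟨g, rfl⟩ := exists_of_isConj hs hk
  rw [lf_eq hcom]
  have h1 : π x * π (g * a * g⁻¹) * (π x)⁻¹ = π ((x * g) * a * (x * g)⁻¹) := by
    rw [← map_inv, ← map_mul, ← map_mul]; congr 1; group
  rw [h1, lf_eq hcom]; group

theorem lf_comm (hs : Function.Surjective π) (hcom : ∀ g, π g * π a = π a * π g → g * a = a * g)
    {k : K} (hk : IsConj (π a) k) (x : L) (hx : π x * k = k * π x) :
    x * lf π a k = lf π a k * x := by
  have h1 := lf_conj hs hcom hk x
  rw [hx, mul_inv_cancel_right] at h1
  rw [eq_mul_inv_iff_mul_eq] at h1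
  exact h1.symm

/-- Change of the lift by a central element. -/
theorem lf_mul (hπ : Ext π) (hcom : ∀ g, π g * π a = π a * π g → g * a = a * g)
    {z : L} (hz : π z = 1) {k : K} (hk : IsConj (π a) k) :
    lf π (a * z) k = lf π a k * z := by
  have haz : π (a * z) = π a := by rw [map_mul, hz, mul_one]
  have hcom' : ∀ g, π g * π (a * z) = π (a * z) * π g → g * (a * z) = (a * z) * g := by
    intro g hg
    rw [haz] at hg
    rw [← mul_assoc, hcom g hg, mul_assoc, mul_assoc, hπ.cen z hz g]
  obtain ⟨g, rfl⟩ := exists_of_isConj hπ.surj hk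
  have h1 : π (g * a * g⁻¹) = π (g * (a * z) * g⁻¹) := by
    rw [map_mul, map_mul, map_mul, map_mul, haz]
  rw [lf_eq hcom, h1, lf_eq hcom']
  calc g * (a * z) * g⁻¹ = g * a * (z * g⁻¹) := by group
    _ = g * a * (g⁻¹ * z) := by rw [hπ.cen z hz]
    _ = g * a * g⁻¹ * z := by group

end Cfsg.Agent.KFacts.MulY.ClassLift

end

-- merged: Cfsg.Agent.KFacts.MulY.CoOne
section

/-!
# The 2-part of the Schur multiplier of `Co1` (helper249)

`card_le_two`: a perfect central extension `π : L → Co1` whose kernel is a 2-group has a kernel of order at most 2.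
Hypotheses: the centralizer of an involution of type 2A of `Co1` is perfect, `M24` has no perfect double cover.
-/

set_option autoImplicit false
open Cfsg

namespace Cfsg.Agent.KFacts.MulY.CoOne

open Subgroup
open Cfsg.Agent.SporadicA.GolayBase
open Cfsg.Agent.SporadicA.Co0Mono
open Cfsg.Agent.SporadicA.Co1Simple
open Cfsg.Agent.CoOneType.SignFacts
open Cfsg.Agent.CoOneType.CoOneE
open Cfsg.Agent.KFacts.MulY.OctadGen
open Cfsg.Agent.KFacts.MulY.GoodTrans
open Cfsg.Agent.KFacts.MulY.ClassLift
open Cfsg.Agent.KFacts.MulDef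
open scoped commutatorElement

/-- Sign changes in `Co1`. -/
def A (c : golayCode) : Spor.Co1 := pr (signCo0 c)

theorem A_add (c d : golayCode) : A (c + d) = A c * A d := by
  unfold A; rw [signCo0_add, map_mul]

theorem A_sq (c : golayCode) : A c * A c = 1 := by
  unfold A; rw [← map_mul, signCo0_mul_self, map_one]

theorem A_comm (c d : golayCode) : A c * A d = A d * A c := by
  rw [← A_add, add_comm, A_add]

theorem perm_A (σ : M24) (c : golayCode) :
    pr (permCo0 σ) * A c * (pr (permCo0 σ))⁻¹ = A (wordPerm σ c) := by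
  unfold A
  rw [← map_inv, ← map_mul, ← map_mul, perm_mul_sign_mul_inv]

/-- Lifts of the sign changes on octads. -/
structure Hat {L : Type*} [Group L] (π : L →* Spor.Co1) (t : golayCode → L) : Prop where
  map : ∀ c, wt c = 8 → π (t c) = A c
  conj : ∀ (x : L) (c d : golayCode), wt c = 8 → wt d = 8 → π x * A c * (π x)⁻¹ = A d → x * t c * x⁻¹ = t d

/-- Linear lifts. -/
structure Lin {L : Type*} [Group L] (π : L →* Spor.Co1) (t : golayCode → L) : Prop extends Hat π t where
  add : ∀ c d, Good c d → t c * t d = t (c + d)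

variable {L : Type*} [Group L] {π : L →* Spor.Co1} {t : golayCode → L}

theorem Hat.commute (H : Hat π t) {c d : golayCode} (hc : wt c = 8) (hd : wt d = 8) : t c * t d = t d * t c := by
  have h1 := H.conj (t d) c c hc hc (by rw [H.map d hd, A_comm, mul_inv_cancel_right])
  rw [mul_inv_eq_iff_eq_mul] at h1
  exact h1.symm

theorem Hat.perm (H : Hat π t) {σ : M24} {x : L} (hx : π x = pr (permCo0 σ)) {c : golayCode} (hc : wt c = 8) :
    x * t c * x⁻¹ = t (wordPerm σ c) :=
  H.conj x c _ hc (by rw [wt_wordPerm]; exact hc) (by rw [hx]; exact perm_A σ c)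

/-- The defect of additivity. -/
def eta (t : golayCode → L) (c d : golayCode) : L := t c * t d * (t (c + d))⁻¹

theorem Hat.map_eta (H : Hat π t) {c d : golayCode} (h : Good c d) : π (eta t c d) = 1 := by
  unfold eta
  rw [map_mul, map_mul, map_inv, H.map _ h.left, H.map _ h.right, H.map _ h.add, A_add, mul_inv_cancel]

theorem Hat.eta_eq (hπ : Ext π) (H : Hat π t) {c d c' d' : golayCode} (h : Good c d) (h' : Good c' d') :
    eta t c d = eta t c' d' := by
  obtain ⟨σ, rfl, rfl⟩ := exists_perm h h'
  obtain ⟨x, hx⟩ := hπ.surj (pr (permCo0 σ))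
  have hz := hπ.cen _ (H.map_eta h) x
  calc eta t c d = eta t c d * x * x⁻¹ := by rw [mul_inv_cancel_right]
    _ = x * eta t c d * x⁻¹ := by rw [hz]
    _ = (x * t c * x⁻¹) * (x * t d * x⁻¹) * (x * t (c + d) * x⁻¹)⁻¹ := by unfold eta; group
    _ = _ := by rw [H.perm hx h.left, H.perm hx h.right, H.perm hx h.add]; rfl

/-- The lifts can be chosen linear. -/
theorem Hat.exists_lin (hπ : Ext π) (H : Hat π t) : ∃ h : golayCode → L, Lin π h := by
  set e := eta t (cw 1) (cw 2) with he
  have hm : π e = 1 := H.map_eta good_base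
  have hz : ∀ x, e * x = x * e := hπ.cen e hm
  have hzi : ∀ x, e⁻¹ * x = x * e⁻¹ := fun x => by
    rw [inv_mul_eq_iff_eq_mul, ← mul_assoc, hz, mul_inv_cancel_right]
  refine ⟨fun c => t c * e⁻¹, ⟨?_, ?_⟩, ?_⟩
  · intro c hc
    rw [map_mul, map_inv, hm, H.map c hc, inv_one, mul_one]
  · intro x c d hc hd h
    show x * (t c * e⁻¹) * x⁻¹ = t d * e⁻¹
    rw [← H.conj x c d hc hd h]
    calc x * (t c * e⁻¹) * x⁻¹ = x * t c * (e⁻¹ * x⁻¹) := by group
      _ = x * t c * (x⁻¹ * e⁻¹) := by rw [hzi]
      _ = _ := by group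
  · intro c d h
    show t c * e⁻¹ * (t d * e⁻¹) = t (c + d) * e⁻¹
    have h1 : e = t c * t d * (t (c + d))⁻¹ := H.eta_eq hπ good_base h
    have h2 : t c * t d = e * t (c + d) := by rw [h1]; group
    calc t c * e⁻¹ * (t d * e⁻¹) = t c * (e⁻¹ * t d) * e⁻¹ := by group
      _ = t c * (t d * e⁻¹) * e⁻¹ := by rw [hzi]
      _ = (t c * t d) * e⁻¹ * e⁻¹ := by group
      _ = (e * t (c + d)) * e⁻¹ * e⁻¹ := by rw [h2]
      _ = (t (c + d) * e) * e⁻¹ * e⁻¹ := by rw [hz]
      _ = _ := by group

theorem Hat.sq_eq (hπ : Ext π) (H : Hat π t) {c d : golayCode} (hc : wt c = 8) (hd : wt d = 8) :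
    t c * t c = t d * t d := by
  obtain ⟨σ, hσ⟩ := Cfsg.Agent.S0367.result _ _ ((sup_mem_octads c).2 hc) ((sup_mem_octads d).2 hd)
  rw [← sup_wordPerm] at hσ
  have hσ' := sup_inj hσ
  subst hσ'
  obtain ⟨x, hx⟩ := hπ.surj (pr (permCo0 σ))
  have hz := hπ.cen (t c * t c) (by rw [map_mul, H.map c hc, A_sq]) x
  calc t c * t c = t c * t c * x * x⁻¹ := by rw [mul_inv_cancel_right]
    _ = x * (t c * t c) * x⁻¹ := by rw [hz]
    _ = (x * t c * x⁻¹) * (x * t c * x⁻¹) := by group
    _ = _ := by rw [H.perm hx hc]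

theorem Lin.sq (hπ : Ext π) (H : Lin π t) {c : golayCode} (hc : wt c = 8) : t c * t c = 1 := by
  have g := good_base
  have h1 := H.add _ _ g
  have h2 : t (cw 1 + cw 2) * t (cw 1 + cw 2) = (t (cw 1) * t (cw 1)) * (t (cw 2) * t (cw 2)) := by
    rw [← h1]
    calc t (cw 1) * t (cw 2) * (t (cw 1) * t (cw 2)) = t (cw 1) * (t (cw 2) * t (cw 1)) * t (cw 2) := by group
      _ = t (cw 1) * (t (cw 1) * t (cw 2)) * t (cw 2) := by rw [H.commute g.left g.right]
      _ = _ := by group
  rw [H.sq_eq hπ g.add hc, H.sq_eq hπ g.left hc, H.sq_eq hπ g.right hc] at h2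
  exact (left_eq_mul.1 h2)

/-- The group generated by the lifts. -/
def HH (t : golayCode → L) : Subgroup L := closure (t '' {c | wt c = 8})

theorem mem_HH {c : golayCode} (hc : wt c = 8) : t c ∈ HH t := subset_closure ⟨c, hc, rfl⟩

theorem Lin.HH_le (H : Lin π t) : HH t ≤ closure ((fun k => t (cw (2 ^ k))) '' {k | k < 12}) := by
  unfold HH
  rw [closure_le]
  rintro _ ⟨c, hc, rfl⟩
  obtain ⟨i, hi, rfl⟩ := exists_cw c
  refine octad_induction (Q := fun i => t (cw i) ∈ closure ((fun k => t (cw (2 ^ k))) '' {k | k < 12}))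
    (fun k hk => subset_closure ⟨k, hk, rfl⟩) ?_ i hi hc
  intro i j hQi hQj h
  show t (cw (i ^^^ j)) ∈ _
  rw [cw_xor, ← H.add _ _ h]
  exact mul_mem hQi hQj

/-- `n` commuting involutions generate a group of order at most `2 ^ n`. -/
theorem card_closure_le [Finite L] (f : ℕ → L) : ∀ n : ℕ, (∀ i j, i < n → j < n → f i * f j = f j * f i) →
    (∀ i, i < n → f i * f i = 1) → Nat.card (closure (f '' {k | k < n})) ≤ 2 ^ n := by
  intro n
  induction n with
  | zero =>
    intro _ _
    have : f '' {k | k < 0} = ∅ := by simp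
    rw [this, Subgroup.closure_empty, card_bot, pow_zero]
  | succ n ih =>
    intro hcomm hsq
    have ih' := ih (fun i j hi hj => hcomm i j (by omega) (by omega)) (fun i hi => hsq i (by omega))
    set K := closure (f '' {k | k < n}) with hK
    have hcK : ∀ x ∈ K, f n * x = x * f n := by
      intro x hx
      have h1 : K ≤ centralizer {f n} := by
        rw [hK, closure_le]
        rintro _ ⟨k, hk, rfl⟩
        rw [SetLike.mem_coe, mem_centralizer_singleton_iff]
        have hk' : k < n := hk
        exact hcomm k n (by omega) (by omega)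
      exact (mem_centralizer_singleton_iff.1 (h1 hx)).symm
    have hsn := hsq n (by omega)
    let K' : Subgroup L :=
      { carrier := {x | x ∈ K ∨ x * f n ∈ K}
        one_mem' := Or.inl (one_mem K)
        mul_mem' := by
          rintro x y (hx | hx) (hy | hy)
          · left; exact mul_mem hx hy
          · right; rw [mul_assoc]; exact mul_mem hx hy
          · right
            have : x * y * f n = x * f n * y := by rw [mul_assoc, ← hcK y hy, mul_assoc]
            rw [this]; exact mul_mem hx hy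
          · left
            have : x * y = (x * f n) * (y * f n) := by
              have h2 : y * f n = f n * y := by
                have h3 := hcK _ hy
                -- f n * (y * f n) = y * f n * f n = y
                rw [mul_assoc, hsn, mul_one] at h3
                calc y * f n = (f n * (y * f n)) * f n := by rw [h3]
                  _ = f n * y * (f n * f n) := by group
                  _ = f n * y := by rw [hsn, mul_one]
              rw [h2]
              calc x * y = x * (f n * f n) * y := by rw [hsn, mul_one]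
                _ = _ := by group
            rw [this]; exact mul_mem hx hy
        inv_mem' := by
          rintro x (hx | hx)
          · left; exact inv_mem hx
          · right
            have h3 := hcK _ hx
            rw [mul_assoc, hsn, mul_one] at h3
            -- h3 : f n * (x * f n) = x
            have h4 : x⁻¹ * f n = (x * f n)⁻¹ := by
              have h5 : x * f n = f n * x := by
                calc x * f n = (f n * (x * f n)) * f n := by rw [h3]
                  _ = f n * x * (f n * f n) := by group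
                  _ = f n * x := by rw [hsn, mul_one]
              rw [h5, mul_inv_rev]
              congr 1
              exact (inv_eq_of_mul_eq_one_right hsn).symm
            rw [h4]; exact inv_mem hx }
    have h1 : closure (f '' {k | k < n + 1}) ≤ K' := by
      rw [closure_le]
      rintro _ ⟨k, hk, rfl⟩
      have hk' : k < n + 1 := hk
      rcases Nat.lt_succ_iff_lt_or_eq.1 hk' with h | rfl
      · exact Or.inl (subset_closure ⟨k, h, rfl⟩)
      · right; rw [hsn]; exact one_mem K
    have h2 : Nat.card K' ≤ 2 * Nat.card K := by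
      have h3 : (K' : Set L) ⊆ (K : Set L) ∪ (fun x => x * f n) '' (K : Set L) := by
        rintro x (hx | hx)
        · exact Or.inl hx
        · refine Or.inr ⟨x * f n, hx, ?_⟩
          show x * f n * f n = x
          rw [mul_assoc, hsn, mul_one]
      have h4 := Set.ncard_le_ncard h3 (Set.toFinite _)
      have h5 := Set.ncard_union_le (K : Set L) ((fun x => x * f n) '' (K : Set L))
      have h6 : ((fun x => x * f n) '' (K : Set L)).ncard ≤ (K : Set L).ncard := Set.ncard_image_le (Set.toFinite _)
      have e1 : (K' : Set L).ncard = Nat.card K' := rfl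
      have e2 : (K : Set L).ncard = Nat.card K := rfl
      omega
    calc Nat.card (closure (f '' {k | k < n + 1})) ≤ Nat.card K' := Subgroup.card_le_of_le h1
      _ ≤ 2 * Nat.card K := h2
      _ ≤ 2 * 2 ^ n := Nat.mul_le_mul_left 2 ih'
      _ = 2 ^ (n + 1) := by rw [pow_succ]; ring

theorem Lin.card_HH [Finite L] (hπ : Ext π) (H : Lin π t) : Nat.card (HH t) ≤ 4096 := by
  have h1 := Subgroup.card_le_of_le H.HH_le
  have h2 := card_closure_le (fun k => t (cw (2 ^ k))) 12
    (fun i j hi hj => H.commute (wt_basis i hi) (wt_basis j hj)) (fun i hi => H.sq hπ (wt_basis i hi))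
  exact le_trans h1 (le_trans h2 (by norm_num))

theorem Hat.E_le (H : Hat π t) : E ≤ (HH t).map π := by
  rintro _ ⟨c, rfl⟩
  have key : ∀ c, wt c = 8 → A c ∈ (HH t).map π := fun c hc => ⟨t c, mem_HH hc, H.map c hc⟩
  rcases wt_cases c with h | h | h | h | h
  · rw [(pr_sign_eq_one_iff c).2 (Or.inl h)]; exact one_mem _
  · exact key c h
  · obtain ⟨a, b, ha, hb, rfl⟩ := exists_octads_add h
    show A (a + b) ∈ _
    rw [A_add]
    exact mul_mem (key a ha) (key b hb)
  · rw [← pr_sign_add_allOne]
    apply key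
    have := wt_add_allOne c
    omega
  · rw [(pr_sign_eq_one_iff c).2 (Or.inr h)]; exact one_mem _

theorem Hat.map_HH_le (H : Hat π t) : (HH t).map π ≤ E := by
  rw [map_le_iff_le_comap]
  unfold HH
  rw [closure_le]
  rintro _ ⟨c, hc, rfl⟩
  exact ⟨c, H.map c hc⟩

/-- The group of the lifts meets the kernel in a group of order at most 2. -/
theorem Lin.card_ker_le [Finite L] (hπ : Ext π) (H : Lin π t) (hle : π.ker ≤ HH t) : Nat.card π.ker ≤ 2 := by
  let f : HH t →* Spor.Co1 := π.comp (HH t).subtype
  have h1 : Nat.card f.ker * f.ker.index = Nat.card (HH t) := card_mul_index _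
  rw [index_ker] at h1
  have h2 : f.range = (HH t).map π := by
    rw [MonoidHom.range_eq_map, ← map_map, ← MonoidHom.range_eq_map, range_subtype]
  have h3 : 2048 ≤ Nat.card f.range := by
    rw [← card_E, h2]
    exact Subgroup.card_le_of_le H.E_le
  have h4 := H.card_HH hπ
  have h5 : Nat.card f.ker ≤ 2 := by
    by_contra hcon
    push Not at hcon
    have : 3 * 2048 ≤ Nat.card f.ker * Nat.card f.range := Nat.mul_le_mul hcon h3
    omega
  refine le_trans ?_ h5
  have h6 : Function.Injective (fun x : π.ker => (⟨⟨x, hle x.2⟩, x.2⟩ : f.ker)) := by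
    intro x y h
    apply Subtype.ext
    have := congrArg (fun z : f.ker => ((z : HH t) : L)) h
    exact this
  exact Nat.card_le_card_of_injective _ h6

/-! ### The complement over `M24` -/

theorem sigma_eq_one {c : golayCode} {σ : M24} (h : A c = pr (permCo0 σ)) : σ = 1 := by
  rcases (pr_eq_iff _ _).1 h with h1 | h1
  · apply perm_eq_one (d := c)
    rw [h1, signCo0_mul_self]
  · apply perm_eq_one (d := c + allOne)
    rw [h1, ← signCo0_add, signCo0_mul_self]

theorem inj : Function.Injective (pr.comp permCo0) := by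
  rw [injective_iff_map_eq_one]
  intro σ hσ
  apply sigma_eq_one (c := 0)
  have h1 : pr (permCo0 σ) = 1 := hσ
  rw [h1]
  unfold A
  rw [signCo0_zero, map_one]

/-- The image of `M24` in `Co1`. -/
def TT : Subgroup Spor.Co1 := (pr.comp permCo0).range

theorem mem_TT {x : Spor.Co1} : x ∈ TT ↔ ∃ σ : M24, pr (permCo0 σ) = x := Iff.rfl

theorem commutator_M24 : commutator M24 = ⊤ := by
  rcases Cfsg.Agent.S0365.result.eq_bot_or_eq_top_of_normal (commutator M24) inferInstance with
    h | h
  · exfalso
    have hcomm : ∀ a b : M24, a * b = b * a := by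
      intro a b
      have h1 : ⁅a, b⁆ ∈ commutator M24 :=
        Subgroup.commutator_mem_commutator (Subgroup.mem_top a) (Subgroup.mem_top b)
      rw [h, Subgroup.mem_bot, commutatorElement_eq_one_iff_mul_comm] at h1
      exact h1
    let _ : CommGroup M24 := { (inferInstance : Group M24) with mul_comm := hcomm }
    have : IsSimpleGroup M24 := Cfsg.Agent.S0365.result
    have h2 : (Nat.card M24).Prime := IsSimpleGroup.prime_card
    rw [Cfsg.Agent.S0364.result] at h2
    exact absurd h2 (by norm_num)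
  · exact h

theorem commutator_TT : ⁅TT, TT⁆ = TT := by
  unfold TT
  rw [MonoidHom.range_eq_map, ← map_commutator, ← commutator_def, commutator_M24]

theorem comm_eq (hπ : Ext π) {x y x' y' : L} (hx : π x = π x') (hy : π y = π y') : ⁅x, y⁆ = ⁅x', y'⁆ := by
  have hz := hπ.cen (x * x'⁻¹) (by rw [map_mul, map_inv, hx, mul_inv_cancel])
  have hw := hπ.cen (y * y'⁻¹) (by rw [map_mul, map_inv, hy, mul_inv_cancel])
  set z := x * x'⁻¹ with hzz
  set w := y * y'⁻¹ with hww
  have ex : x = z * x' := by rw [hzz]; group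
  have ey : y = w * y' := by rw [hww]; group
  rw [ex, ey, commutatorElement_def, commutatorElement_def]
  calc z * x' * (w * y') * (z * x')⁻¹ * (w * y')⁻¹
      = z * ((x' * w) * y' * x'⁻¹ * z⁻¹) * (y'⁻¹ * w⁻¹) := by group
    _ = z * ((w * x') * y' * x'⁻¹ * z⁻¹) * (y'⁻¹ * w⁻¹) := by rw [hw x']
    _ = (z * (w * x' * y' * x'⁻¹)) * z⁻¹ * (y'⁻¹ * w⁻¹) := by group
    _ = ((w * x' * y' * x'⁻¹) * z) * z⁻¹ * (y'⁻¹ * w⁻¹) := by rw [hz]
    _ = w * (x' * y' * x'⁻¹ * y'⁻¹) * w⁻¹ := by group
    _ = (x' * y' * x'⁻¹ * y'⁻¹) * w * w⁻¹ := by rw [hw]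
    _ = _ := by group

/-- The preimage of `M24`. -/
def UU (π : L →* Spor.Co1) : Subgroup L := TT.comap π

/-- Its commutator subgroup. -/
def TL (π : L →* Spor.Co1) : Subgroup L := ⁅UU π, UU π⁆

theorem map_TL (hπ : Ext π) : (TL π).map π = TT := by
  unfold TL UU
  rw [map_commutator, map_comap_eq_self_of_surjective hπ.surj, commutator_TT]

theorem TL_le : TL π ≤ UU π := by
  unfold TL
  rw [commutator_le]
  intro a ha b hb
  exact mul_mem (mul_mem (mul_mem ha hb) (inv_mem ha)) (inv_mem hb)

theorem TL_perfect (hπ : Ext π) : TL π ≤ ⁅TL π, TL π⁆ := by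
  have key : ∀ x ∈ UU π, ∃ s ∈ TL π, π x = π s := by
    intro x hx
    have h1 : π x ∈ (TL π).map π := by rw [map_TL hπ]; exact hx
    obtain ⟨s, hs, hs'⟩ := h1
    exact ⟨s, hs, hs'.symm⟩
  conv_lhs => unfold TL
  rw [commutator_le]
  intro x hx y hy
  obtain ⟨s, hs, hs'⟩ := key x hx
  obtain ⟨r, hr, hr'⟩ := key y hy
  rw [comm_eq hπ hs' hr']
  exact commutator_mem_commutator hs hr

theorem TL_ker [Finite L] (hπ : Ext π) (h2 : IsPGroup 2 π.ker) (h24 : NoDouble M24) {x : L} (hx : x ∈ TL π)
    (h1 : π x = 1) : x = 1 := by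
  let f : TL π →* TT := (π.comp (TL π).subtype).codRestrict TT (fun y => TL_le (π := π) y.2)
  have hf : Function.Surjective f := by
    rintro ⟨y, hy⟩
    have h3 : y ∈ (TL π).map π := by rw [map_TL hπ]; exact hy
    obtain ⟨s, hs, hs'⟩ := h3
    exact ⟨⟨s, hs⟩, Subtype.ext hs'⟩
  have hperf : commutator (TL π) = ⊤ := by
    apply map_injective (TL π).subtype_injective
    rw [Subgroup.map_subtype_commutator, ← MonoidHom.range_eq_map, range_subtype]
    apply le_antisymm
    · rw [commutator_le]
      intro a ha b hb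
      exact mul_mem (mul_mem (mul_mem ha hb) (inv_mem ha)) (inv_mem hb)
    · exact TL_perfect hπ
  have hker : ∀ y : TL π, y ∈ f.ker → π y = 1 := fun y hy => congrArg Subtype.val hy
  have hcen : f.ker ≤ center (TL π) := by
    intro y hy
    rw [Subgroup.mem_center_iff]
    intro g
    apply Subtype.ext
    exact (hπ.cen y (hker y hy) g).symm
  have hN : NoDouble TT := h24.congr (MonoidHom.ofInjective inj)
  have hodd := hN.odd_card hperf hf hcen
  have hy : (⟨x, hx⟩ : TL π) ∈ f.ker := Subtype.ext h1
  have h4 : orderOf x ∣ Nat.card f.ker := by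
    have h5 := orderOf_dvd_natCard (⟨⟨x, hx⟩, hy⟩ : f.ker)
    rwa [orderOf_mk, orderOf_mk] at h5
  have hxk : x ∈ π.ker := h1
  obtain ⟨k, hk⟩ := (IsPGroup.iff_orderOf.1 h2) ⟨x, hxk⟩
  rw [orderOf_mk] at hk
  rcases Nat.eq_zero_or_pos k with rfl | hpos
  · rw [pow_zero, orderOf_eq_one_iff] at hk; exact hk
  · exfalso
    rw [hk] at h4
    have h6 : 2 ∣ Nat.card f.ker := dvd_trans (dvd_pow_self 2 hpos.ne') h4
    exact (Nat.not_even_iff_odd.2 hodd) (even_iff_two_dvd.2 h6)

theorem Hat.normal (H : Hat π t) {x h : L} (hx : x ∈ UU π) (hh : h ∈ HH t) : x * h * x⁻¹ ∈ HH t := by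
  obtain ⟨σ, hσ⟩ := mem_TT.1 (show π x ∈ TT from hx)
  have h1 : HH t ≤ (HH t).comap (MulAut.conj x).toMonoidHom := by
    conv_lhs => unfold HH
    rw [closure_le]
    rintro _ ⟨c, hc, rfl⟩
    show x * t c * x⁻¹ ∈ HH t
    rw [H.perm hσ.symm hc]
    exact mem_HH (by rw [wt_wordPerm]; exact hc)
  exact h1 hh

/-- The product of the two groups. -/
def MM (H : Hat π t) : Subgroup L where
  carrier := {x | ∃ h ∈ HH t, ∃ s ∈ TL π, x = h * s}
  one_mem' := ⟨1, one_mem _, 1, one_mem _, by rw [mul_one]⟩
  mul_mem' := by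
    rintro _ _ ⟨h, hh, s, hs, rfl⟩ ⟨h', hh', s', hs', rfl⟩
    exact ⟨h * (s * h' * s⁻¹), mul_mem hh (H.normal (TL_le hs) hh'), s * s', mul_mem hs hs', by group⟩
  inv_mem' := by
    rintro _ ⟨h, hh, s, hs, rfl⟩
    refine ⟨s⁻¹ * h⁻¹ * s⁻¹⁻¹, H.normal (inv_mem (TL_le hs)) (inv_mem hh), s⁻¹, inv_mem hs, by group⟩

/-- The preimage of the monomial group. -/
def PP (π : L →* Spor.Co1) : Subgroup L := (N.map pr).comap π

theorem index_N : N.index = 8292375 := by
  have h1 := N.card_mul_index
  rw [Cfsg.Agent.S0399.card_N, Cfsg.Agent.S0397.result] at h1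
  omega

theorem index_PP (hπ : Ext π) : (PP π).index = 8292375 := by
  unfold PP
  rw [index_comap_of_surjective _ hπ.surj, Subgroup.index_map_eq _ pr_surjective, index_N]
  intro g hg
  have hg' : g ∈ center Co0 := by
    have : g ∈ (QuotientGroup.mk' (center Co0)).ker := hg
    rwa [QuotientGroup.ker_mk'] at this
  rcases (mem_center_iff g).1 hg' with rfl | rfl
  · exact one_mem _
  · exact sign_mem_N _

theorem Hat.comm_le (hπ : Ext π) (H : Hat π t) : ⁅PP π, PP π⁆ ≤ MM H := by
  have key : ∀ x ∈ PP π, ∃ m ∈ MM H, π x = π m := by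
    intro x hx
    obtain ⟨g, hg, hgx⟩ := (show π x ∈ N.map pr from hx)
    obtain ⟨a, σ, rfl⟩ := exists_sign_perm hg
    obtain ⟨h, hh, hh'⟩ := H.E_le (show A a ∈ E from ⟨a, rfl⟩)
    have h1 : pr (permCo0 σ) ∈ (TL π).map π := by rw [map_TL hπ]; exact ⟨σ, rfl⟩
    obtain ⟨s, hs, hs'⟩ := h1
    refine ⟨h * s, ⟨h, hh, s, hs, rfl⟩, ?_⟩
    rw [← hgx, map_mul, map_mul, hh', hs']
    rfl
  rw [commutator_le]
  intro x hx y hy
  obtain ⟨m, hm, hm'⟩ := key x hx
  obtain ⟨n, hn, hn'⟩ := key y hy
  rw [comm_eq hπ hm' hn']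
  exact mul_mem (mul_mem (mul_mem hm hn) (inv_mem hm)) (inv_mem hn)

/-- The kernel lies in the group of the lifts. -/
theorem Hat.ker_le [Finite L] (hperf : commutator L = ⊤) (hπ : Ext π) (h2 : IsPGroup 2 π.ker)
    (h24 : NoDouble M24) (H : Hat π t) : π.ker ≤ HH t := by
  intro z hz
  have hz1 : π z = 1 := hz
  have hcen := hπ.cen z hz1
  have h1 : ∀ (k : ℕ) (g₀ : L), g₀⁻¹ * z ^ k * g₀ ∈ PP π → g₀⁻¹ * z ^ k * g₀ = z ^ k := by
    intro k g₀ _
    have h2 : Commute z g₀ := hcen g₀
    rw [mul_assoc, (h2.pow_left k).eq]; group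
  have h3 := MonoidHom.transfer_eq_pow (Abelianization.of (G := PP π)) z h1
  have h4 : MonoidHom.transfer (Abelianization.of (G := PP π)) z = 1 := by
    have h5 : (MonoidHom.transfer (Abelianization.of (G := PP π))).ker = ⊤ := by
      rw [eq_top_iff, ← hperf]
      exact Abelianization.commutator_subset_ker _
    have : z ∈ (MonoidHom.transfer (Abelianization.of (G := PP π))).ker := by rw [h5]; exact mem_top _
    exact this
  rw [h4] at h3
  have h5 : (⟨z ^ (PP π).index, MonoidHom.transfer_eq_pow_aux z h1⟩ : PP π) ∈ commutator (PP π) := by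
    rw [← Abelianization.ker_of]
    exact h3.symm
  have h6 : z ^ (PP π).index ∈ MM H := by
    apply H.comm_le hπ
    rw [← Subgroup.map_subtype_commutator]
    exact ⟨_, h5, rfl⟩
  have h7 : ((PP π).index).Coprime (orderOf z) := by
    obtain ⟨k, hk⟩ := (IsPGroup.iff_orderOf.1 h2) ⟨z, hz⟩
    rw [orderOf_mk] at hk
    rw [hk, index_PP hπ]
    exact Nat.Coprime.pow_right k (by norm_num)
  obtain ⟨m, hm⟩ := exists_pow_eq_self_of_coprime h7
  have h8 : z ∈ MM H := by
    rw [← hm]
    exact pow_mem h6 m
  obtain ⟨h, hh, s, hs, rfl⟩ := h8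
  rw [map_mul] at hz1
  obtain ⟨c, hc⟩ := H.map_HH_le (mem_map_of_mem π hh)
  obtain ⟨σ, hσ⟩ := mem_TT.1 (show π s ∈ TT from TL_le hs)
  have h9 : σ⁻¹ = 1 := by
    apply sigma_eq_one (c := c)
    rw [map_inv, map_inv, hσ]
    show pr (signCo0 c) = _
    rw [← hc]
    exact eq_inv_of_mul_eq_one_left hz1
  have h10 : σ = 1 := inv_eq_one.1 h9
  have h11 : s = 1 := by
    apply TL_ker hπ h2 h24 hs
    rw [← hσ, h10, map_one, map_one]
  rw [h11, mul_one]
  exact hh

/-- **The 2-part of the multiplier of `Co1`** -/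
theorem card_le_two [Finite L] (hperf : commutator L = ⊤) (hs : Function.Surjective π) (hc : π.ker ≤ center L)
    (h2 : IsPGroup 2 π.ker) {o : golayCode} (ho : wt o = 8)
    (hC : centralizer ({pr (signCo0 o)} : Set Spor.Co1) ≤
      ⁅centralizer ({pr (signCo0 o)} : Set Spor.Co1), centralizer ({pr (signCo0 o)} : Set Spor.Co1)⁆)
    (h24 : NoDouble M24) : Nat.card π.ker ≤ 2 := by
  have hπ : Ext π := ⟨hs, fun z hz x => (Subgroup.mem_center_iff.1 (hc hz) x).symm⟩
  obtain ⟨a, ha⟩ := hs (pr (signCo0 o))
  have hcom : ∀ g, π g * π a = π a * π g → g * a = a * g := by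
    intro g hg
    exact commute_of_perfect hπ a (by rw [ha]; exact hC) hg
  have hcj : ∀ c, wt c = 8 → IsConj (π a) (A c) := by
    intro c hc
    rw [ha]
    exact isConj_of_wt o c (Or.inl ⟨ho, hc⟩)
  have H : Hat π (fun c => lf π a (A c)) := by
    refine ⟨fun c hc => map_lf hs hcom (hcj c hc), fun x c d hc hd h => ?_⟩
    show x * lf π a (A c) * x⁻¹ = lf π a (A d)
    rw [← lf_conj hs hcom (hcj c hc), h]
  obtain ⟨h, hlin⟩ := H.exists_lin hπ
  exact hlin.card_ker_le hπ (hlin.ker_le hperf hπ h2 h24)

end Cfsg.Agent.KFacts.MulY.CoOne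

end
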