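import Cfsg.Agent.KFacts.MulY.CoOne
import Cfsg.Agent.KFacts.CoTwo.Perf
import Cfsg.Agent.Co2Type.TCard
import Cfsg.Agent.KFacts.MulY.UniqueCover
import Cfsg.Agent.KFacts.MulLift
import Cfsg.Agent.Co2Type.CardCo2
import Cfsg.Agent.Schreier.McLaughlin
import Cfsg.Agent.SporadicA.MathieuRecog

-- merged: Cfsg.Agent.KFacts.MulY.HexadGen
section

/-!
# Generation of the hexads (octads through two points) by threefold sums (helper249)

`hexad_induction`: a property of code words (given by their indices) that holds for the eleven base hexads and passes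
from three hexads to their sum, if the sums of two of them are octads and their sum is a hexad, holds for all hexads.
-/

set_option autoImplicit false
set_option Elab.async false
open Cfsg

namespace Cfsg.Agent.KFacts.MulY.HexadGen

open Cfsg.Agent.SporadicA.GolayBase
open Cfsg.Agent.CoOneType.SignFacts
open Cfsg.Agent.KFacts.MulY.OctadGen

/-- Hexads: octads through the two points. -/
structure Hex (c : golayCode) : Prop where
  wt : wt c = 8
  none : (c : GolayPt → ZMod 2) none = 1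
  zero : (c : GolayPt → ZMod 2) (some 0) = 1

/-- The check for hexads. -/
def hexB (i : ℕ) : Bool := Nat.beq (popcount (enc i)) 8 && (enc i).testBit 23 && (enc i).testBit 0

theorem cw_apply (i : ℕ) (p : GolayPt) : (cw i : GolayPt → ZMod 2) p = if (enc i).testBit (idx p) then 1 else 0 := rfl

theorem hex_cw {i : ℕ} : Hex (cw i) ↔ hexB i = true := by
  unfold hexB
  rw [Bool.and_eq_true, Bool.and_eq_true]
  have e1 : (cw i : GolayPt → ZMod 2) none = if (enc i).testBit 23 then 1 else 0 := rfl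
  have e2 : (cw i : GolayPt → ZMod 2) (some 0) = if (enc i).testBit 0 then 1 else 0 := rfl
  constructor
  · rintro ⟨h1, h2, h3⟩
    rw [wt_cw] at h1
    rw [e1] at h2
    rw [e2] at h3
    refine ⟨⟨?_, ?_⟩, ?_⟩
    · rw [h1]; rfl
    · by_contra hc
      rw [if_neg hc] at h2
      exact absurd h2 (by decide)
    · by_contra hc
      rw [if_neg hc] at h3
      exact absurd h3 (by decide)
  · rintro ⟨⟨h1, h2⟩, h3⟩
    refine ⟨?_, ?_, ?_⟩
    · rw [wt_cw]; exact Nat.eq_of_beq_eq_true h1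
    · rw [e1, if_pos h2]
    · rw [e2, if_pos h3]

/-- Triples of hexads whose sum is a hexad. -/
structure Quad (a b d : golayCode) : Prop where
  h1 : Hex a
  h2 : Hex b
  h3 : Hex d
  h12 : wt (a + b) = 8
  h13 : wt (a + d) = 8
  h23 : wt (b + d) = 8
  h : Hex (a + b + d)

/-- The check for octads. -/
def octB (i : ℕ) : Bool := Nat.beq (popcount (enc i)) 8

/-- The check for quadruples. -/
def quadB (i j k : ℕ) : Bool :=
  hexB i && hexB j && hexB k && octB (i ^^^ j) && octB (i ^^^ k) && octB (j ^^^ k) && hexB (i ^^^ j ^^^ k)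

theorem quad_cw {i j k : ℕ} (h : quadB i j k = true) : Quad (cw i) (cw j) (cw k) := by
  unfold quadB at h
  simp only [Bool.and_eq_true] at h
  obtain ⟨⟨⟨⟨⟨⟨h1, h2⟩, h3⟩, h4⟩, h5⟩, h6⟩, h7⟩ := h
  refine ⟨hex_cw.2 h1, hex_cw.2 h2, hex_cw.2 h3, ?_, ?_, ?_, ?_⟩
  · rw [← cw_xor, wt_cw]; exact Nat.eq_of_beq_eq_true h4
  · rw [← cw_xor, wt_cw]; exact Nat.eq_of_beq_eq_true h5
  · rw [← cw_xor, wt_cw]; exact Nat.eq_of_beq_eq_true h6
  · rw [← cw_xor, ← cw_xor]; exact hex_cw.2 h7

/-- The check of a step. -/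
def chk (S i j k : ℕ) : Bool := S.testBit i && S.testBit j && S.testBit k && quadB i j k

/-- The set of the indices reached. -/
def go : List (ℕ × ℕ × ℕ) → ℕ → ℕ
  | [], S => S
  | (i, j, k) :: l, S => bif chk S i j k then go l (S ||| (1 <<< (i ^^^ j ^^^ k))) else 0

theorem go_spec {Q : ℕ → Prop}
    (hQ : ∀ i j k, Q i → Q j → Q k → Quad (cw i) (cw j) (cw k) → Q (i ^^^ j ^^^ k)) :
    ∀ (l : List (ℕ × ℕ × ℕ)) (S : ℕ), (∀ i, S.testBit i = true → Q i) →
      ∀ i, (go l S).testBit i = true → Q i := by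
  intro l
  induction l with
  | nil => exact fun S hS i hi => hS i hi
  | cons p l ih =>
    obtain ⟨a, b, c⟩ := p
    intro S hS i hi
    rw [go] at hi
    cases hc : chk S a b c with
    | false =>
      rw [hc, cond_false, Nat.zero_testBit] at hi
      exact absurd hi (by decide)
    | true =>
      rw [hc, cond_true] at hi
      unfold chk at hc
      simp only [Bool.and_eq_true] at hc
      obtain ⟨⟨⟨h1, h2⟩, h3⟩, h4⟩ := hc
      exact ih _ (fun k hk => or_spec hS (hQ a b c (hS a h1) (hS b h2) (hS c h3) (quad_cw h4)) k hk) i hi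

/-- The steps. -/
def steps : List (ℕ × ℕ × ℕ) := [
  (595, 2113, 2577), (1059, 2113, 2345), (11, 595, 2577), (11, 1059, 2345), (11, 1059, 1193), (11, 37, 1059),
  (11, 37, 2345), (11, 265, 2311), (11, 131, 265), (11, 131, 1193), (11, 131, 2053), (581, 595, 2311), (581,
  2113, 2577), (581, 2113, 2311), (581, 1355, 2311), (581, 2121, 2189), (581, 2121, 2321), (581, 2121, 3593),
  (581, 1037, 1057), (581, 2053, 2113), (581, 2053, 2577), (581, 2053, 2121), (581, 1057, 2577), (581, 2189,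
  2577), (581, 2189, 3593), (37, 1059, 1217), (37, 581, 1057), (37, 581, 641), (37, 581, 617), (37, 265,
  1193), (37, 265, 797), (37, 1193, 2189), (37, 1193, 1217), (37, 2121, 2345), (37, 2121, 3189), (37, 129,
  2053), (37, 129, 385), (37, 129, 513), (37, 129, 199), (37, 1037, 1049), (37, 385, 677), (37, 641, 1413),
  (37, 641, 2209), (37, 641, 677), (37, 1029, 3073), (37, 1029, 1049), (37, 617, 797), (37, 513, 1059), (37,
  81, 225), (37, 81, 99), (37, 1217, 3189), (37, 1217, 1413), (265, 581, 2189), (265, 2577, 3593), (265, 1355,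
  3073), (265, 2121, 3329), (265, 771, 2577), (265, 797, 1543), (265, 513, 641), (265, 1413, 1543), (265, 561,
  651), (265, 2081, 2311), (131, 595, 1089), (131, 1193, 3593), (131, 1057, 2081), (131, 641, 769)]

/-- The base hexads. -/
def bs (k : ℕ) : ℕ := [595, 1059, 2345, 11, 2113, 581, 37, 265, 131, 1193, 2577].getD k 0

/-- The base hexads. -/
def start : ℕ :=
  (((((((((((0 ||| 1 <<< 595) ||| 1 <<< 1059) ||| 1 <<< 2345) ||| 1 <<< 11) ||| 1 <<< 2113) ||| 1 <<< 581) ||| 1 <<< 37) ||| 1 <<< 265) ||| 1 <<< 131) ||| 1 <<< 1193) ||| 1 <<< 2577)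

/-- The set of the indices of the hexads. -/
def hexSet : ℕ :=
  39881769643296449927428458215377202500794304405783606385147535857687086137929604544056455662532083004618354125509678708218046469473001088634945231007944093262295408111753358277288670465019792538463933790061805569461603005309109743640027794196318840642339044434409544158573944322073194085090311004202147688017574006003003158493014481407139089592060535541709984878955258870170142063236307106811916250639193545333296975599983430624514351759876147957395991376086054303071466942761222474102951856624127204265552548166331872539867925611200515167031187160386505503426716023246731554151582962993367032282274002653954315288717835465988757187176816271288442156879192667132998232116222111873520512927593761128147378699997276345052819294634880878630698715464465912817346663689675553673006538464693608427732093543420013431541055929184143175251162067063016733842693064544580699175215897111026930465402264514240080491670651148731221872470654271178918559189748011132359944951685707247644230515553619169043755026212598887015591910904915818113929689361780244188933193239358057421909025961868210997770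

theorem go_steps : Nat.beq (go steps start) hexSet = true := by decide +kernel

theorem hexSet_all : allR 12 0 (fun i => !(hexB i) || hexSet.testBit i) = true := by
  decide +kernel

/-- Induction over the hexads. -/
theorem hexad_induction {Q : ℕ → Prop} (h0 : ∀ k < 11, Q (bs k))
    (hQ : ∀ i j k, Q i → Q j → Q k → Quad (cw i) (cw j) (cw k) → Q (i ^^^ j ^^^ k)) (i : ℕ) (hi : i < 4096)
    (hw : Hex (cw i)) : Q i := by
  have h1 : hexSet.testBit i = true := by
    have h := allR_zero_spec hexSet_all i hi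
    rw [hex_cw] at hw
    rw [hw] at h
    simpa using h
  rw [← Nat.eq_of_beq_eq_true go_steps] at h1
  refine go_spec hQ steps start ?_ i h1
  unfold start
  have z : ∀ i, (0 : ℕ).testBit i = true → Q i := fun i hi => by
    rw [Nat.zero_testBit] at hi; exact absurd hi (by decide)
  exact or_spec (or_spec (or_spec (or_spec (or_spec (or_spec (or_spec (or_spec (or_spec (or_spec (or_spec z
    (h0 0 (by norm_num))) (h0 1 (by norm_num))) (h0 2 (by norm_num))) (h0 3 (by norm_num))) (h0 4 (by norm_num)))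
    (h0 5 (by norm_num))) (h0 6 (by norm_num))) (h0 7 (by norm_num))) (h0 8 (by norm_num))) (h0 9 (by norm_num)))
    (h0 10 (by norm_num))

theorem hex_bs : ∀ k < 11, Hex (cw (bs k)) := by
  intro k hk
  rw [hex_cw]
  have h : ∀ k < 11, hexB (bs k) = true := by decide +kernel
  exact h k hk

/-- Three pairs of hexads with the same sum. -/
theorem quad1 : Quad (cw 1) (cw 3) (cw 9) ∧ cw 1 + cw 3 + cw 9 = cw 11 :=
  ⟨quad_cw (by decide +kernel), by rw [← cw_xor, ← cw_xor]; exact congrArg cw (by decide)⟩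

theorem quad2 : Quad (cw 9) (cw 11) (cw 21) ∧ cw 9 + cw 11 + cw 21 = cw 23 :=
  ⟨quad_cw (by decide +kernel), by rw [← cw_xor, ← cw_xor]; exact congrArg cw (by decide)⟩

theorem quad3 : Quad (cw 1) (cw 3) (cw 21) ∧ cw 1 + cw 3 + cw 21 = cw 23 :=
  ⟨quad_cw (by decide +kernel), by rw [← cw_xor, ← cw_xor]; exact congrArg cw (by decide)⟩

end Cfsg.Agent.KFacts.MulY.HexadGen

end

-- merged: Cfsg.Agent.KFacts.MulY.HexTrans
section

/-!
# Transitivity of `M22` on the triples of hexads whose sum is a hexad (helper249)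
-/

set_option autoImplicit false
open Cfsg

namespace Cfsg.Agent.KFacts.MulY.HexTrans

open Cfsg.Agent.SporadicA.GolayBase
open Cfsg.Agent.SporadicA.M24Frames
open Cfsg.Agent.SporadicA.Co0Mono
open Cfsg.Agent.CoOneType.SignFacts
open Cfsg.Agent.CoOneType.CoOneE
open Cfsg.Agent.KFacts.MulY.OctadGen
open Cfsg.Agent.KFacts.MulY.GoodTrans
open Cfsg.Agent.KFacts.MulY.HexadGen
open scoped Pointwise

theorem exists_pair {s : Finset GolayPt} (h : s.card = 2) : ∃ x y, x ∈ s ∧ y ∈ s ∧ x ≠ y := by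
  obtain ⟨x, y, hxy, rfl⟩ := Finset.card_eq_two.1 h
  exact ⟨x, y, by simp, by simp, hxy⟩

theorem exists_frame {a b d : golayCode} (h : Quad a b d) :
    ∃ f : Fin 7 → GolayPt, Function.Injective f ∧ f 0 = none ∧ f 1 = some 0 ∧
      (∀ i : Fin 7, i < 6 → f i ∈ sup a) ∧ f 6 ∉ sup a ∧
      (∀ i : Fin 7, i < 4 ∨ i = 6 → f i ∈ sup b) ∧
      (∀ i : Fin 7, i < 2 ∨ 3 < i → f i ∈ sup d) := by
  classical
  have e1 := wt_add a b
  have e2 := wt_add a d
  have e3 := wt_add b d
  have e4 := wt_add (a + b) d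
  have w1 := h.h1.wt
  have w2 := h.h2.wt
  have w3 := h.h3.wt
  have w4 := h.h.wt
  have w12 := h.h12
  have w13 := h.h13
  have w23 := h.h23
  have c12 : (sup a ∩ sup b).card = 4 := by omega
  have c13 : (sup a ∩ sup d).card = 4 := by omega
  have c23 : (sup b ∩ sup d).card = 4 := by omega
  have c4 : (sup (a + b) ∩ sup d).card = 4 := by omega
  -- the triple intersection
  have t1 : (sup (a + b) ∩ sup d) = ((sup a ∩ sup d) \ sup b) ∪ ((sup b ∩ sup d) \ sup a) := by
    ext i
    simp only [Finset.mem_inter, Finset.mem_union, Finset.mem_sdiff, mem_sup]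
    have ha : ∀ x y z : ZMod 2, (x + y = 1 ∧ z = 1) ↔ (x = 1 ∧ z = 1) ∧ ¬ y = 1 ∨ (y = 1 ∧ z = 1) ∧ ¬ x = 1 := by
      decide
    exact ha _ _ _
  have t2 : Disjoint ((sup a ∩ sup d) \ sup b) ((sup b ∩ sup d) \ sup a) := by
    rw [Finset.disjoint_left]
    intro i hi hj
    exact (Finset.mem_sdiff.1 hj).2 (Finset.mem_inter.1 (Finset.mem_sdiff.1 hi).1).1
  rw [t1, Finset.card_union_of_disjoint t2] at c4
  have s1 := Finset.card_sdiff_add_card_inter (sup a ∩ sup d) (sup b)
  have s2 := Finset.card_sdiff_add_card_inter (sup b ∩ sup d) (sup a)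
  have s3 := Finset.card_sdiff_add_card_inter (sup a ∩ sup b) (sup d)
  have q1 : (sup a ∩ sup d) ∩ sup b = (sup a ∩ sup b) ∩ sup d := by
    ext i; simp only [Finset.mem_inter]; tauto
  have q2 : (sup b ∩ sup d) ∩ sup a = (sup a ∩ sup b) ∩ sup d := by
    ext i; simp only [Finset.mem_inter]; tauto
  rw [q1] at s1
  rw [q2] at s2
  have r1 : ((sup a ∩ sup b) \ sup d).card = 2 := by omega
  have r2 : ((sup a ∩ sup d) \ sup b).card = 2 := by omega
  have r3 : ((sup b ∩ sup d) \ sup a).card = 2 := by omega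
  obtain ⟨p, q, hp, hq, hpq⟩ := exists_pair r1
  obtain ⟨t, u, ht, hu, htu⟩ := exists_pair r2
  obtain ⟨r, -, hr, -, -⟩ := exists_pair r3
  simp only [Finset.mem_inter, Finset.mem_sdiff] at hp hq ht hu hr
  have na : none ∈ sup a := (mem_sup _ _).2 h.h1.none
  have nb : none ∈ sup b := (mem_sup _ _).2 h.h2.none
  have nd : none ∈ sup d := (mem_sup _ _).2 h.h3.none
  have za : some 0 ∈ sup a := (mem_sup _ _).2 h.h1.zero
  have zb : some 0 ∈ sup b := (mem_sup _ _).2 h.h2.zero
  have zd : some 0 ∈ sup d := (mem_sup _ _).2 h.h3.zero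
  have n1 : ∀ x y : GolayPt, x ∈ sup a → y ∉ sup a → x ≠ y := fun x y h1 h2 h3 => h2 (h3 ▸ h1)
  have n2 : ∀ x y : GolayPt, x ∈ sup b → y ∉ sup b → x ≠ y := fun x y h1 h2 h3 => h2 (h3 ▸ h1)
  have n3 : ∀ x y : GolayPt, x ∈ sup d → y ∉ sup d → x ≠ y := fun x y h1 h2 h3 => h2 (h3 ▸ h1)
  have hnz : (none : GolayPt) ≠ some 0 := by decide
  refine ⟨![none, some 0, p, q, t, u, r], ?_, rfl, rfl, ?_, hr.2, ?_, ?_⟩
  · have hnd : [none, some 0, p, q, t, u, r].Nodup := by
      simp only [List.nodup_cons, List.mem_cons, List.not_mem_nil, or_false, not_or, List.nodup_nil, and_true,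
        not_false_eq_true]
      exact ⟨⟨hnz, n3 _ _ nd hp.2, n3 _ _ nd hq.2, n2 _ _ nb ht.2, n2 _ _ nb hu.2, n1 _ _ na hr.2⟩,
        ⟨n3 _ _ zd hp.2, n3 _ _ zd hq.2, n2 _ _ zb ht.2, n2 _ _ zb hu.2, n1 _ _ za hr.2⟩,
        ⟨hpq, n2 _ _ hp.1.2 ht.2, n2 _ _ hp.1.2 hu.2, n1 _ _ hp.1.1 hr.2⟩,
        ⟨n2 _ _ hq.1.2 ht.2, n2 _ _ hq.1.2 hu.2, n1 _ _ hq.1.1 hr.2⟩,
        ⟨htu, n1 _ _ ht.1.1 hr.2⟩, n1 _ _ hu.1.1 hr.2⟩
    have := List.nodup_iff_injective_get.1 hnd
    intro i j hij
    apply this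
    fin_cases i <;> fin_cases j <;> first | rfl | exact hij
  · intro i hi
    fin_cases i
    · exact na
    · exact za
    · exact hp.1.1
    · exact hq.1.1
    · exact ht.1.1
    · exact hu.1.1
    · exact absurd hi (by decide)
  · intro i hi
    fin_cases i
    · exact nb
    · exact zb
    · exact hp.1.2
    · exact hq.1.2
    · exact absurd hi (by decide)
    · exact absurd hi (by decide)
    · exact hr.1.1
  · intro i hi
    fin_cases i
    · exact nd
    · exact zd
    · exact absurd hi (by decide)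
    · exact absurd hi (by decide)
    · exact ht.1.2
    · exact hu.1.2
    · exact hr.1.2

/-- The elements of `M24` fixing the two points are transitive on the quadruples. -/
theorem exists_perm {a b d a' b' d' : golayCode} (h : Quad a b d) (h' : Quad a' b' d') :
    ∃ σ : M24, (σ : Equiv.Perm GolayPt) none = none ∧ (σ : Equiv.Perm GolayPt) (some 0) = some 0 ∧
      wordPerm σ a = a' ∧ wordPerm σ b = b' ∧ wordPerm σ d = d' := by
  obtain ⟨f, hf, hf0, hf1, ha, ha6, hb, hd⟩ := exists_frame h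
  obtain ⟨f', hf', hf0', hf1', ha', ha6', hb', hd'⟩ := exists_frame h'
  have oa : sup a ∈ octads := (sup_mem_octads _).2 h.h1.wt
  have ob : sup b ∈ octads := (sup_mem_octads _).2 h.h2.wt
  have od : sup d ∈ octads := (sup_mem_octads _).2 h.h3.wt
  have oa' : sup a' ∈ octads := (sup_mem_octads _).2 h'.h1.wt
  have ob' : sup b' ∈ octads := (sup_mem_octads _).2 h'.h2.wt
  have od' : sup d' ∈ octads := (sup_mem_octads _).2 h'.h3.wt
  obtain ⟨g, ⟨hg, hgab⟩, -⟩ := exists_unique_map f f' ⟨hf, sup a, oa, ha, ha6⟩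
    ⟨hf', sup a', oa', ha', ha6'⟩
  refine ⟨⟨g, hg⟩, ?_, ?_, ?_, ?_, ?_⟩
  · show g none = none
    rw [← hf0, hgab, hf0', hf0]
  · show g (some 0) = some 0
    rw [← hf1, hgab, hf1', hf1]
  · apply sup_inj
    rw [sup_wordPerm]
    exact eq_of_five hg oa oa' hf' hgab (Finset.univ.filter (· < 6)) (by decide)
      (fun i hi => ha i (Finset.mem_filter.1 hi).2) (fun i hi => ha' i (Finset.mem_filter.1 hi).2)
  · apply sup_inj
    rw [sup_wordPerm]
    exact eq_of_five hg ob ob' hf' hgab (Finset.univ.filter (fun i => i < 4 ∨ i = 6)) (by decide)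
      (fun i hi => hb i (Finset.mem_filter.1 hi).2) (fun i hi => hb' i (Finset.mem_filter.1 hi).2)
  · apply sup_inj
    rw [sup_wordPerm]
    exact eq_of_five hg od od' hf' hgab (Finset.univ.filter (fun i => i < 2 ∨ 3 < i)) (by decide)
      (fun i hi => hd i (Finset.mem_filter.1 hi).2) (fun i hi => hd' i (Finset.mem_filter.1 hi).2)

end Cfsg.Agent.KFacts.MulY.HexTrans

end

-- merged: Cfsg.Agent.KFacts.MulY.CoTwoHat
section

/-!
# Lifts of the elementary abelian group of order `2 ^ 10` of `Co2` to a double cover (helper249)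

`exists_HH`: a subgroup of the covering group meeting the kernel trivially, lying over the group of sign changes and
normalised by everything over a permutation.
-/

set_option autoImplicit false
set_option Elab.async false
open Cfsg

namespace Cfsg.Agent.KFacts.MulY.CoTwoHat

open Subgroup
open Cfsg.Agent.SporadicA.GolayBase
open Cfsg.Agent.SporadicA.Co0Mono
open Cfsg.Agent.SporadicA.Co1Simple
open Cfsg.Agent.SporadicStructure.M24El
open Cfsg.Agent.CoOneType.SignFacts
open Cfsg.Agent.CoOneType.CoOneE hiding E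
open Cfsg.Agent.Co2Type.Mono
open Cfsg.Agent.Co2Type.TData
open Cfsg.Agent.Co2Type.TGroup
open Cfsg.Agent.Co2Type.FactsD
open Cfsg.Agent.KFacts.MulY.OctadGen
open Cfsg.Agent.KFacts.MulY.GoodTrans
open Cfsg.Agent.KFacts.MulY.HexadGen
open Cfsg.Agent.KFacts.MulY.ClassLift

/-! ### sign changes -/

/-- words avoiding the two points -/
def Av (c : golayCode) : Prop := (c : GolayPt → ZMod 2) none = 0 ∧ (c : GolayPt → ZMod 2) (some 0) = 0

theorem Av.add {c d : golayCode} (hc : Av c) (hd : Av d) : Av (c + d) := by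
  refine ⟨?_, ?_⟩
  · show (c : GolayPt → ZMod 2) none + (d : GolayPt → ZMod 2) none = 0
    rw [hc.1, hd.1, add_zero]
  · show (c : GolayPt → ZMod 2) (some 0) + (d : GolayPt → ZMod 2) (some 0) = 0
    rw [hc.2, hd.2, add_zero]

theorem allOne_apply (p : GolayPt) : (allOne : GolayPt → ZMod 2) p = 1 := rfl

theorem av_hex {c : golayCode} (hc : Hex c) : Av (c + allOne) := by
  refine ⟨?_, ?_⟩
  · show (c : GolayPt → ZMod 2) none + (allOne : GolayPt → ZMod 2) none = 0
    rw [hc.none, allOne_apply]; decide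
  · show (c : GolayPt → ZMod 2) (some 0) + (allOne : GolayPt → ZMod 2) (some 0) = 0
    rw [hc.zero, allOne_apply]; decide

/-- the mask -/
def mk (c : golayCode) : ℕ := maskW (c : GolayPt → ZMod 2)

theorem isCode_mk (c : golayCode) : isCode (mk c) = true := (mem_golayCode_iff (c : GolayPt → ZMod 2)).1 c.2

theorem cd_mk (c : golayCode) : cd (mk c) = c := by
  apply Subtype.ext
  rw [coe_cd (isCode_mk c)]
  exact word_maskW _

theorem inE_mk {c : golayCode} (h : Av c) : inE (mk c) = true := by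
  rw [inE_iff]
  refine ⟨isCode_mk c, ?_, ?_⟩
  · by_contra hc
    rw [Bool.not_eq_false] at hc
    have h1 : word (mk c) (some 0) = 1 := by
      rw [word_apply]; exact if_pos hc
    rw [← coe_cd (isCode_mk c), cd_mk, h.2] at h1
    exact absurd h1 (by decide)
  · by_contra hc
    rw [Bool.not_eq_false] at hc
    have h1 : word (mk c) none = 1 := by
      rw [word_apply]; exact if_pos hc
    rw [← coe_cd (isCode_mk c), cd_mk, h.1] at h1
    exact absurd h1 (by decide)

/-- sign changes in `Co2` -/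
noncomputable def sg (c : golayCode) : Spor.Co2 := ge (mk c)

theorem toCo0_ge {m : ℕ} (hm : inE m = true) : toCo0 (ge m) = signCo0 (cd m) := by
  unfold ge
  rw [toCo0_mo2 hm okP_idP]
  unfold mo
  rw [el_idP, map_one, mul_one]

theorem toCo0_sg {c : golayCode} (h : Av c) : toCo0 (sg c) = signCo0 c := by
  unfold sg
  rw [toCo0_ge (inE_mk h), cd_mk]

theorem sg_cw (i : ℕ) : sg (cw i) = ge (enc i) := by
  unfold sg mk
  show ge (maskW (word (enc i))) = _
  rw [maskW_word (enc_lt i)]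

theorem sg_add {c d : golayCode} (hc : Av c) (hd : Av d) : sg (c + d) = sg c * sg d := by
  apply toCo0_injective
  rw [map_mul, toCo0_sg hc, toCo0_sg hd, toCo0_sg (hc.add hd), signCo0_add]

theorem sg_sq {c : golayCode} (hc : Av c) : sg c * sg c = 1 := by
  apply toCo0_injective
  rw [map_mul, toCo0_sg hc, signCo0_mul_self, map_one]

theorem sg_comm {c d : golayCode} (hc : Av c) (hd : Av d) : sg c * sg d = sg d * sg c := by
  rw [← sg_add hc hd, add_comm, sg_add hd hc]

/-- the sign changes on the complements of hexads -/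
noncomputable def A (c : golayCode) : Spor.Co2 := sg (c + allOne)

theorem A_mul {c d : golayCode} (hc : Hex c) (hd : Hex d) : A c * A d = sg (c + d) := by
  unfold A
  rw [← sg_add (av_hex hc) (av_hex hd)]
  congr 1
  apply Subtype.ext
  funext p
  show ((c : GolayPt → ZMod 2) p + 1) + ((d : GolayPt → ZMod 2) p + 1) = (c : GolayPt → ZMod 2) p + (d : GolayPt → ZMod 2) p
  generalize (c : GolayPt → ZMod 2) p = x
  generalize (d : GolayPt → ZMod 2) p = y
  revert x y
  decide

theorem A_sq {c : golayCode} (hc : Hex c) : A c * A c = 1 := sg_sq (av_hex hc)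

theorem A_comm {c d : golayCode} (hc : Hex c) (hd : Hex d) : A c * A d = A d * A c := sg_comm (av_hex hc) (av_hex hd)

theorem A_cls : allR 12 0 (fun i => !(hexB i) ||
    (inE (enc (Nat.xor i 4095)) && tA (enc (Nat.xor i 4095)) idP)) = true := by decide +kernel

theorem allOne_eq : allOne = cw 4095 := by
  apply Subtype.ext
  funext p
  show (1 : ZMod 2) = word (enc 4095) p
  revert p
  decide +kernel

theorem isConj_A {c : golayCode} (hc : Hex c) : IsConj (ge mz) (A c) := by
  obtain ⟨i, hi, rfl⟩ := exists_cw c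
  have h := allR_zero_spec A_cls i hi
  rw [hex_cw] at hc
  rw [hc, Bool.not_true, Bool.false_or, Bool.and_eq_true] at h
  unfold A
  rw [allOne_eq, ← cw_xor, sg_cw]
  exact Cfsg.Agent.Co2Type.FactsCo2.cls.geA h.1 h.2

/-! ### permutations -/

/-- preserving the pair of points -/
def Pr (σ : M24) : Prop :=
  ((σ : Equiv.Perm GolayPt) none = none ∧ (σ : Equiv.Perm GolayPt) (some 0) = some 0) ∨
    ((σ : Equiv.Perm GolayPt) none = some 0 ∧ (σ : Equiv.Perm GolayPt) (some 0) = none)

theorem Pr.hex {σ : M24} (h : Pr σ) {c : golayCode} (hc : Hex c) : Hex (wordPerm σ c) := by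
  refine ⟨by rw [wt_wordPerm]; exact hc.wt, ?_, ?_⟩
  · rw [wordPerm_apply]
    rcases h with h | h
    · rw [(Equiv.symm_apply_eq _).2 h.1.symm]; exact hc.none
    · rw [(Equiv.symm_apply_eq _).2 h.2.symm]; exact hc.zero
  · rw [wordPerm_apply]
    rcases h with h | h
    · rw [(Equiv.symm_apply_eq _).2 h.2.symm]; exact hc.zero
    · rw [(Equiv.symm_apply_eq _).2 h.1.symm]; exact hc.none

theorem Pr.smul {σ : M24} (h : Pr σ) : permCo0 σ • Spor.leechU = Spor.leechU := by
  apply Subtype.ext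
  funext p
  rw [permCo0_smul, permMap_apply]
  show (if (σ : Equiv.Perm GolayPt).symm p = none ∨ (σ : Equiv.Perm GolayPt).symm p = some 0 then (4 : ℤ) else 0) =
    if p = none ∨ p = some 0 then 4 else 0
  have h1 : ((σ : Equiv.Perm GolayPt).symm p = none ∨ (σ : Equiv.Perm GolayPt).symm p = some 0) ↔
      (p = none ∨ p = some 0) := by
    rw [Equiv.symm_apply_eq, Equiv.symm_apply_eq]
    rcases h with h | h
    · rw [h.1, h.2]
    · rw [h.1, h.2]; exact or_comm
  by_cases h2 : p = none ∨ p = some 0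
  · rw [if_pos h2, if_pos (h1.2 h2)]
  · rw [if_neg h2, if_neg (fun h3 => h2 (h1.1 h3))]

theorem wordPerm_allOne (σ : M24) : wordPerm σ allOne = allOne := by
  apply Subtype.ext
  funext p
  rw [wordPerm_apply, allOne_apply, allOne_apply]

theorem Pr.perm_A {σ : M24} (h : Pr σ) {g : Spor.Co2} (hg : toCo0 g = permCo0 σ) {c : golayCode} (hc : Hex c) :
    g * A c * g⁻¹ = A (wordPerm σ c) := by
  apply toCo0_injective
  unfold A
  rw [map_mul, map_mul, map_inv, hg, toCo0_sg (av_hex hc), toCo0_sg (av_hex (h.hex hc)), perm_mul_sign_mul_inv,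
    wordPerm_add, wordPerm_allOne]

/-! ### hats -/

/-- Lifts of the sign changes on the complements of hexads. -/
structure Hat {L : Type*} [Group L] (π : L →* Spor.Co2) (t : golayCode → L) : Prop where
  map : ∀ c, Hex c → π (t c) = A c
  conj : ∀ (x : L) (c d : golayCode), Hex c → Hex d → π x * A c * (π x)⁻¹ = A d → x * t c * x⁻¹ = t d
  trans : ∀ c d : golayCode, Hex c → Hex d → ∃ x : L, π x * A c * (π x)⁻¹ = A d

variable {L : Type*} [Group L] {π : L →* Spor.Co2} {t : golayCode → L}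

theorem Hat.commute (H : Hat π t) {c d : golayCode} (hc : Hex c) (hd : Hex d) : t c * t d = t d * t c := by
  have h1 := H.conj (t d) c c hc hc (by rw [H.map d hd, A_comm hd hc, mul_inv_cancel_right])
  rw [mul_inv_eq_iff_eq_mul] at h1
  exact h1.symm

theorem Hat.perm (H : Hat π t) {σ : M24} (hσ : Pr σ) {x : L} (hx : toCo0 (π x) = permCo0 σ) {c : golayCode}
    (hc : Hex c) : x * t c * x⁻¹ = t (wordPerm σ c) :=
  H.conj x c _ hc (hσ.hex hc) (hσ.perm_A hx hc)

theorem Hat.sq_eq (hπ : Ext π) (H : Hat π t) {c d : golayCode} (hc : Hex c) (hd : Hex d) :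
    t c * t c = t d * t d := by
  obtain ⟨x, hx⟩ := H.trans c d hc hd
  have hz := hπ.cen (t c * t c) (by rw [map_mul, H.map c hc, A_sq hc]) x
  calc t c * t c = t c * t c * x * x⁻¹ := by rw [mul_inv_cancel_right]
    _ = x * (t c * t c) * x⁻¹ := by rw [hz]
    _ = (x * t c * x⁻¹) * (x * t c * x⁻¹) := by group
    _ = _ := by rw [H.conj x c d hc hd hx]

/-- The defect. -/
def zt (t : golayCode → L) (a b d : golayCode) : L := t a * t b * (t d * t (a + b + d))⁻¹

theorem Hat.map_zt (H : Hat π t) {a b d : golayCode} (h : Quad a b d) : π (zt t a b d) = 1 := by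
  unfold zt
  rw [map_mul, map_mul, map_inv, map_mul, H.map _ h.h1, H.map _ h.h2, H.map _ h.h3, H.map _ h.h, A_mul h.h1 h.h2,
    A_mul h.h3 h.h]
  have e : a + b = d + (a + b + d) := by
    apply Subtype.ext
    funext p
    show (a : GolayPt → ZMod 2) p + (b : GolayPt → ZMod 2) p = (d : GolayPt → ZMod 2) p +
      ((a : GolayPt → ZMod 2) p + (b : GolayPt → ZMod 2) p + (d : GolayPt → ZMod 2) p)
    generalize (a : GolayPt → ZMod 2) p = x
    generalize (b : GolayPt → ZMod 2) p = y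
    generalize (d : GolayPt → ZMod 2) p = z
    revert x y z
    decide
  rw [← e, mul_inv_cancel]

theorem Hat.zt_eq (hπ : Ext π) (H : Hat π t) {a b d a' b' d' : golayCode} (h : Quad a b d) (h' : Quad a' b' d') :
    zt t a b d = zt t a' b' d' := by
  obtain ⟨σ, h1, h2, rfl, rfl, rfl⟩ := HexTrans.exists_perm h h'
  have hσ : Pr σ := Or.inl ⟨h1, h2⟩
  obtain ⟨g, hg⟩ := exists_toCo0 hσ.smul
  obtain ⟨x, rfl⟩ := hπ.surj g
  have hz := hπ.cen _ (H.map_zt h) x
  calc zt t a b d = zt t a b d * x * x⁻¹ := by rw [mul_inv_cancel_right]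
    _ = x * zt t a b d * x⁻¹ := by rw [hz]
    _ = (x * t a * x⁻¹) * (x * t b * x⁻¹) * ((x * t d * x⁻¹) * (x * t (a + b + d) * x⁻¹))⁻¹ := by
        unfold zt; group
    _ = _ := by rw [H.perm hσ hg h.h1, H.perm hσ hg h.h2, H.perm hσ hg h.h3, H.perm hσ hg h.h]; rfl

theorem Hat.zt_one (hπ : Ext π) (H : Hat π t) {a b d : golayCode} (h : Quad a b d) : zt t a b d = 1 := by
  obtain ⟨q1, e1⟩ := quad1
  obtain ⟨q2, e2⟩ := quad2
  obtain ⟨q3, e3⟩ := quad3
  have h1 := H.zt_eq hπ h q1
  have h2 := H.zt_eq hπ h q2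
  have h3 := H.zt_eq hπ h q3
  have h4 : zt t (cw 1) (cw 3) (cw 9) * zt t (cw 9) (cw 11) (cw 21) = zt t (cw 1) (cw 3) (cw 21) := by
    unfold zt
    rw [e1, e2, e3]; group
  rw [← h1, ← h2, ← h3] at h4
  exact mul_eq_left.1 h4

theorem Hat.mul_eq (hπ : Ext π) (H : Hat π t) {a b d : golayCode} (h : Quad a b d) :
    t a * t b = t d * t (a + b + d) := by
  have := H.zt_one hπ h
  unfold zt at this
  exact mul_inv_eq_one.1 this

/-- the base hexad -/
def c0 : golayCode := cw (bs 10)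

theorem hex_c0 : Hex c0 := hex_bs 10 (by norm_num)

/-- the linear lifts -/
def u (t : golayCode → L) (c : golayCode) : L := t c * (t c0)⁻¹

theorem Hat.comm_inv (H : Hat π t) {c d : golayCode} (hc : Hex c) (hd : Hex d) :
    t c * (t d)⁻¹ = (t d)⁻¹ * t c := by
  rw [eq_inv_mul_iff_mul_eq, ← mul_assoc, ← H.commute hc hd, mul_inv_cancel_right]

theorem Hat.u_comm (H : Hat π t) {c d : golayCode} (hc : Hex c) (hd : Hex d) :
    u t c * u t d = u t d * u t c := by
  unfold u
  have h1 := H.comm_inv hc hex_c0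
  have h2 := H.comm_inv hd hex_c0
  calc t c * (t c0)⁻¹ * (t d * (t c0)⁻¹) = t c * ((t c0)⁻¹ * t d) * (t c0)⁻¹ := by group
    _ = t c * (t d * (t c0)⁻¹) * (t c0)⁻¹ := by rw [h2]
    _ = (t c * t d) * (t c0)⁻¹ * (t c0)⁻¹ := by group
    _ = (t d * t c) * (t c0)⁻¹ * (t c0)⁻¹ := by rw [H.commute hc hd]
    _ = t d * (t c * (t c0)⁻¹) * (t c0)⁻¹ := by group
    _ = t d * ((t c0)⁻¹ * t c) * (t c0)⁻¹ := by rw [h1]
    _ = _ := by group

theorem Hat.u_sq (hπ : Ext π) (H : Hat π t) {c : golayCode} (hc : Hex c) : u t c * u t c = 1 := by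
  unfold u
  have h1 := H.comm_inv hc hex_c0
  calc t c * (t c0)⁻¹ * (t c * (t c0)⁻¹) = t c * ((t c0)⁻¹ * t c) * (t c0)⁻¹ := by group
    _ = t c * (t c * (t c0)⁻¹) * (t c0)⁻¹ := by rw [h1]
    _ = (t c * t c) * (t c0 * t c0)⁻¹ := by group
    _ = 1 := by rw [H.sq_eq hπ hc hex_c0, mul_inv_cancel]

theorem Hat.u_mul (hπ : Ext π) (H : Hat π t) {a b d : golayCode} (h : Quad a b d) :
    u t a * u t b * u t d = u t (a + b + d) := by
  unfold u
  have h1 := H.comm_inv h.h2 hex_c0
  have h2 := H.comm_inv h.h3 hex_c0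
  have h3 := H.sq_eq hπ h.h3 hex_c0
  calc t a * (t c0)⁻¹ * (t b * (t c0)⁻¹) * (t d * (t c0)⁻¹)
      = t a * ((t c0)⁻¹ * t b) * ((t c0)⁻¹ * t d) * (t c0)⁻¹ := by group
    _ = t a * (t b * (t c0)⁻¹) * (t d * (t c0)⁻¹) * (t c0)⁻¹ := by rw [← h1, h2]
    _ = (t a * t b) * ((t c0)⁻¹ * t d) * (t c0)⁻¹ * (t c0)⁻¹ := by group
    _ = (t d * t (a + b + d)) * (t d * (t c0)⁻¹) * (t c0)⁻¹ * (t c0)⁻¹ := by rw [H.mul_eq hπ h, ← h2]
    _ = (t (a + b + d) * t d) * (t d * (t c0)⁻¹) * (t c0)⁻¹ * (t c0)⁻¹ := by rw [H.commute h.h3 h.h]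
    _ = t (a + b + d) * (t d * t d) * (t c0 * t c0)⁻¹ * (t c0)⁻¹ := by group
    _ = t (a + b + d) * (t c0 * t c0) * (t c0 * t c0)⁻¹ * (t c0)⁻¹ := by rw [h3]
    _ = _ := by group

/-- The group generated by the linear lifts. -/
def HH (t : golayCode → L) : Subgroup L := closure (u t '' {c | Hex c})

theorem mem_HH {c : golayCode} (hc : Hex c) : u t c ∈ HH t := subset_closure ⟨c, hc, rfl⟩

theorem Hat.HH_le (hπ : Ext π) (H : Hat π t) :
    HH t ≤ closure ((fun k => u t (cw (bs k))) '' {k | k < 10}) := by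
  unfold HH
  rw [closure_le]
  rintro _ ⟨c, hc, rfl⟩
  obtain ⟨i, hi, rfl⟩ := exists_cw c
  refine hexad_induction (Q := fun i => u t (cw i) ∈ closure ((fun k => u t (cw (bs k))) '' {k | k < 10}))
    ?_ ?_ i hi hc
  · intro k hk
    rcases Nat.lt_or_ge k 10 with h | h
    · exact subset_closure ⟨k, h, rfl⟩
    · have : k = 10 := by omega
      subst this
      have e : u t (cw (bs 10)) = 1 := mul_inv_cancel _
      rw [e]
      exact one_mem _
  · intro i j k hi hj hk h
    show u t (cw (i ^^^ j ^^^ k)) ∈ _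
    rw [cw_xor, cw_xor, ← H.u_mul hπ h]
    exact mul_mem (mul_mem hi hj) hk

theorem Hat.card_HH [Finite L] (hπ : Ext π) (H : Hat π t) : Nat.card (HH t) ≤ 1024 := by
  have h1 := Subgroup.card_le_of_le (H.HH_le hπ)
  have h2 := CoOne.card_closure_le (fun k => u t (cw (bs k))) 10
    (fun i j hi hj => H.u_comm (hex_bs i (by omega)) (hex_bs j (by omega)))
    (fun i hi => H.u_sq hπ (hex_bs i (by omega)))
  exact le_trans h1 (le_trans h2 (by norm_num))

theorem Hat.map_u (H : Hat π t) {c : golayCode} (hc : Hex c) : π (u t c) = sg (c + c0) := by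
  unfold u
  rw [map_mul, map_inv, H.map c hc, H.map c0 hex_c0, inv_eq_of_mul_eq_one_left (A_sq hex_c0), A_mul hc hex_c0]

/-- a test for membership in a span -/
def spC : List ℕ → ℕ → Bool
  | [], a => Nat.beq a 0
  | b :: l, a => spC l a || spC l (Nat.xor a b)

theorem sp_of_spC {l : List ℕ} : ∀ {a : ℕ}, spC l a = true → Sp l a := by
  induction l with
  | nil => intro a h; exact Nat.eq_of_beq_eq_true h
  | cons b l ih =>
    intro a h
    rw [spC, Bool.or_eq_true] at h
    exact h.imp ih ih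

/-- the differences of the base hexads -/
def L10 : List ℕ := (List.range 10).map fun k => enc (bs k ^^^ bs 10)

theorem L10_inE : L10.all inE = true := by decide +kernel

theorem B10_sp : B10.all (spC L10) = true := by decide +kernel

theorem B10_inE : B10.all inE = true := by decide +kernel

theorem Hat.E_le (H : Hat π t) : E ≤ (HH t).map π := by
  have h1 : ∀ b ∈ L10, inE b = true ∧ ge b ∈ (HH t).map π := by
    intro b hb
    refine ⟨List.all_eq_true.1 L10_inE b hb, ?_⟩
    obtain ⟨k, hk, rfl⟩ := List.mem_map.1 hb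
    have hk' : k < 10 := List.mem_range.1 hk
    have hx := hex_bs k (by omega)
    refine ⟨u t (cw (bs k)), mem_HH hx, ?_⟩
    rw [H.map_u hx]
    unfold c0
    rw [← cw_xor, sg_cw]
  have h2 : ∀ b ∈ B10, inE b = true ∧ ge b ∈ (HH t).map π := by
    intro b hb
    have hb' := List.all_eq_true.1 B10_inE b hb
    exact ⟨hb', KFacts.CoTwo.MPerf.mem_of_sp h1 hb' (sp_of_spC (List.all_eq_true.1 B10_sp b hb))⟩
  rintro _ ⟨m, hm, rfl⟩
  exact KFacts.CoTwo.MPerf.mem_of_sp h2 hm (sp_B10 hm)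

theorem Hat.map_HH_le (H : Hat π t) : (HH t).map π ≤ E := by
  rw [map_le_iff_le_comap]
  unfold HH
  rw [closure_le]
  rintro _ ⟨c, hc, rfl⟩
  show π (u t c) ∈ E
  rw [H.map_u hc]
  refine ge_mem (inE_mk ?_)
  have e : c + c0 = (c + allOne) + (c0 + allOne) := by
    apply Subtype.ext
    funext p
    show (c : GolayPt → ZMod 2) p + (c0 : GolayPt → ZMod 2) p = ((c : GolayPt → ZMod 2) p + 1) +
      ((c0 : GolayPt → ZMod 2) p + 1)
    generalize (c : GolayPt → ZMod 2) p = x
    generalize (c0 : GolayPt → ZMod 2) p = y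
    revert x y
    decide
  rw [e]
  exact (av_hex hc).add (av_hex hex_c0)

/-- The group of the lifts meets the kernel trivially. -/
theorem Hat.ker [Finite L] (hπ : Ext π) (H : Hat π t) {x : L} (hx : x ∈ HH t) (h1 : π x = 1) : x = 1 := by
  let f : HH t →* Spor.Co2 := π.comp (HH t).subtype
  have h2 : Nat.card f.ker * f.ker.index = Nat.card (HH t) := card_mul_index _
  rw [index_ker] at h2
  have h3 : f.range = (HH t).map π := by
    rw [MonoidHom.range_eq_map, ← map_map, ← MonoidHom.range_eq_map, range_subtype]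
  have h4 : 1024 ≤ Nat.card f.range := by
    have e : Nat.card E = 1024 := by rw [Cfsg.Agent.Co2Type.TCard.card_E]; norm_num
    rw [← e, h3]
    exact Subgroup.card_le_of_le H.E_le
  have h5 := H.card_HH hπ
  have h6 : Nat.card f.ker = 1 := by
    have hpos : 0 < Nat.card f.ker := Nat.card_pos
    by_contra hcon
    have h7 : 2 ≤ Nat.card f.ker := by omega
    have : 2 * 1024 ≤ Nat.card f.ker * Nat.card f.range := Nat.mul_le_mul h7 h4
    omega
  have h8 : f.ker = ⊥ := Subgroup.card_eq_one.1 h6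
  have h9 : (⟨x, hx⟩ : HH t) ∈ f.ker := h1
  rw [h8, Subgroup.mem_bot] at h9
  exact congrArg Subtype.val h9

theorem Hat.normal (H : Hat π t) {σ : M24} (hσ : Pr σ) {x h : L} (hx : toCo0 (π x) = permCo0 σ)
    (hh : h ∈ HH t) : x * h * x⁻¹ ∈ HH t := by
  have h1 : HH t ≤ (HH t).comap (MulAut.conj x).toMonoidHom := by
    conv_lhs => unfold HH
    rw [closure_le]
    rintro _ ⟨c, hc, rfl⟩
    show x * (t c * (t c0)⁻¹) * x⁻¹ ∈ HH t
    have e : x * (t c * (t c0)⁻¹) * x⁻¹ = u t (wordPerm σ c) * (u t (wordPerm σ c0))⁻¹ := by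
      calc x * (t c * (t c0)⁻¹) * x⁻¹ = (x * t c * x⁻¹) * (x * t c0 * x⁻¹)⁻¹ := by group
        _ = t (wordPerm σ c) * (t (wordPerm σ c0))⁻¹ := by rw [H.perm hσ hx hc, H.perm hσ hx hex_c0]
        _ = _ := by unfold u; group
    rw [e]
    exact mul_mem (mem_HH (hσ.hex hc)) (inv_mem (mem_HH (hσ.hex hex_c0)))
  exact h1 hh

/-- Existence of the lifts. -/
theorem exists_hat (hπ : Ext π) : ∃ t : golayCode → L, Hat π t := by
  obtain ⟨a, ha⟩ := hπ.surj (ge mz)
  have hC : centralizer ({π a} : Set Spor.Co2) ≤ ⁅centralizer ({π a} : Set Spor.Co2), centralizer ({π a} : Set Spor.Co2)⁆ := by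
    rw [ha]
    exact le_of_eq (KFacts.CoTwo.Perf.commutator_P).symm
  have hcom : ∀ g, π g * π a = π a * π g → g * a = a * g := fun g hg => commute_of_perfect hπ a hC hg
  have hcj : ∀ c, Hex c → IsConj (π a) (A c) := by
    intro c hc
    rw [ha]
    exact isConj_A hc
  refine ⟨fun c => lf π a (A c), ⟨fun c hc => map_lf hπ.surj hcom (hcj c hc), fun x c d hc hd h => ?_,
    fun c d hc hd => ?_⟩⟩
  · show x * lf π a (A c) * x⁻¹ = lf π a (A d)
    rw [← lf_conj hπ.surj hcom (hcj c hc), h]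
  · obtain ⟨g, hg⟩ := isConj_iff.1 ((hcj c hc).symm.trans (hcj d hd))
    obtain ⟨x, rfl⟩ := hπ.surj g
    exact ⟨x, hg⟩

end Cfsg.Agent.KFacts.MulY.CoTwoHat

end

-- merged: Cfsg.Agent.KFacts.MulY.CoTwo
section

/-!
# `Co2` has no perfect double cover (helper249)

`noDouble`: from the same property of the McLaughlin group.
-/

set_option autoImplicit false
open Cfsg

namespace Cfsg.Agent.KFacts.MulY.CoTwo

open Subgroup
open Cfsg.Agent.SporadicA.GolayBase
open Cfsg.Agent.SporadicA.GolayPerm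
open Cfsg.Agent.SporadicA.Co0Mono
open Cfsg.Agent.SporadicA.Co1Simple
open Cfsg.Agent.SporadicStructure.M24El
open Cfsg.Agent.Co2Type.Mono
open Cfsg.Agent.Co2Type.TData
open Cfsg.Agent.Co2Type.TGroup
open Cfsg.Agent.Co2Type.FactsD
open Cfsg.Agent.KFacts.MulY.ClassLift
open Cfsg.Agent.KFacts.MulY.CoTwoHat
open Cfsg.Agent.KFacts.MulDef
open scoped commutatorElement

/-! ### perfect groups -/

theorem commutator_simple {G : Type*} [Group G] [IsSimpleGroup G] (h : ¬ ∀ a b : G, a * b = b * a) :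
    commutator G = ⊤ := by
  rcases (inferInstance : IsSimpleGroup G).eq_bot_or_eq_top_of_normal (commutator G) inferInstance with h1 | h1
  · exfalso
    apply h
    intro a b
    have h2 : ⁅a, b⁆ ∈ commutator G :=
      Subgroup.commutator_mem_commutator (Subgroup.mem_top a) (Subgroup.mem_top b)
    rw [h1, Subgroup.mem_bot, commutatorElement_eq_one_iff_mul_comm] at h2
    exact h2
  · exact h1

theorem commutator_of_card {G : Type*} [Group G] [IsSimpleGroup G] (h : ¬ (Nat.card G).Prime) :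
    commutator G = ⊤ := by
  apply commutator_simple
  intro hc
  apply h
  let _ : CommGroup G := { (inferInstance : Group G) with mul_comm := hc }
  exact IsSimpleGroup.prime_card

/-! ### `M22` in `McL` -/

theorem mem_M24 (σ : Spor.M22) : (σ : Equiv.Perm GolayPt) ∈ M24 := σ.2.1.1

/-- the inclusion in `M24` -/
def incl : Spor.M22 →* M24 := Subgroup.inclusion (fun _ h => h.1.1)

theorem incl_none (σ : Spor.M22) : (incl σ : Equiv.Perm GolayPt) none = none := σ.2.1.2

theorem incl_zero (σ : Spor.M22) : (incl σ : Equiv.Perm GolayPt) (some 0) = some 0 := σ.2.2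

theorem pr_incl (σ : Spor.M22) : Pr (incl σ) := Or.inl ⟨incl_none σ, incl_zero σ⟩

theorem smul_V (σ : Spor.M22) : permCo0 (incl σ) • Spor.leechV = Spor.leechV := by
  apply Subtype.ext
  funext p
  rw [permCo0_smul, permMap_apply]
  show (if (incl σ : Equiv.Perm GolayPt).symm p = none then (-5 : ℤ) else -1) = if p = none then -5 else -1
  have h1 : ((incl σ : Equiv.Perm GolayPt).symm p = none) ↔ p = none := by
    rw [Equiv.symm_apply_eq, incl_none]
  by_cases h2 : p = none
  · rw [if_pos h2, if_pos (h1.2 h2)]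
  · rw [if_neg h2, if_neg (fun h3 => h2 (h1.1 h3))]

/-- the embedding of `M22` in `McL` -/
def emb : Spor.M22 →* Spor.McL :=
  (Co0.subtype.comp (permCo0.comp incl)).codRestrict Spor.McL (fun σ =>
    ⟨⟨(permCo0 (incl σ)).2, smul_V σ⟩, (pr_incl σ).smul⟩)

/-- the inclusion of `McL` in `Co2` -/
def ι : Spor.McL →* Spor.Co2 := Subgroup.inclusion (fun _ h => ⟨h.1.1, h.2⟩)

theorem toCo0_emb (σ : Spor.M22) : toCo0 (ι (emb σ)) = permCo0 (incl σ) := rfl

/-- the image of `M22` -/
def TT : Subgroup Spor.Co2 := (ι.comp emb).range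

theorem mem_TT {g : Spor.Co2} : g ∈ TT ↔ ∃ σ : M24, (σ : Equiv.Perm GolayPt) none = none ∧
    (σ : Equiv.Perm GolayPt) (some 0) = some 0 ∧ toCo0 g = permCo0 σ := by
  constructor
  · rintro ⟨σ, rfl⟩
    exact ⟨incl σ, incl_none σ, incl_zero σ, rfl⟩
  · rintro ⟨σ, h1, h2, h3⟩
    refine ⟨⟨σ, ⟨σ.2, h1⟩, h2⟩, toCo0_injective ?_⟩
    rw [h3]; rfl

theorem commutator_M22 : commutator Spor.M22 = ⊤ := by
  have : IsSimpleGroup Spor.M22 := Cfsg.Agent.SporadicA.MathieuRecog.simple_M22
  apply commutator_of_card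
  rw [Cfsg.Agent.SporadicA.MathieuRecog.card_M22]
  norm_num

theorem commutator_McL : commutator Spor.McL = ⊤ := by
  have : IsSimpleGroup Spor.McL := Cfsg.Agent.Schreier.McLaughlin.isSimple_mcl
  apply commutator_of_card
  rw [Cfsg.Agent.Schreier.McLaughlin.card_mcl]
  norm_num

theorem sign_perm_eq {c : golayCode} {σ : M24} (h : signCo0 c = permCo0 σ) : σ = 1 := by
  apply Cfsg.Agent.SporadicA.Co1Simple.perm_eq_one (d := c)
  rw [h, ← h, signCo0_mul_self]

section

variable {L : Type*} [Group L] {π : L →* Spor.Co2} {c : L} {t : golayCode → L}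

/-- the preimage of `M22` -/
def UU (π : L →* Spor.Co2) : Subgroup L := TT.comap π

/-- its commutator subgroup -/
def TL (π : L →* Spor.Co2) : Subgroup L := ⁅UU π, UU π⁆

theorem TL_le : TL π ≤ UU π := by
  unfold TL
  rw [commutator_le]
  intro a ha b hb
  exact mul_mem (mul_mem (mul_mem ha hb) (inv_mem ha)) (inv_mem hb)

theorem ext_of_dbl (hd : Dbl π c) : Ext π := ⟨hd.surj, fun z hz x => by
  rcases (hd.ker z).1 hz with rfl | rfl
  · simp
  · exact hd.cen x⟩

theorem ker_le (hπ : Ext π) : π.ker ≤ center L := fun z hz =>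
  mem_center_iff.2 fun x => (hπ.cen z hz x).symm

theorem map_TL (hπ : Ext π) : (TL π).map π = TT := by
  unfold TL UU
  rw [map_commutator, map_comap_eq_self_of_surjective hπ.surj]
  unfold TT
  rw [MonoidHom.range_eq_map, ← map_commutator, ← commutator_def, commutator_M22]

theorem c_notMem_TL [Finite L] (hd : Dbl π c) (hM : NoDouble Spor.McL) : c ∉ TL π := by
  have hfin : Finite Spor.McL := Nat.finite_of_card_ne_zero (by
    rw [Cfsg.Agent.Schreier.McLaughlin.card_mcl]; norm_num)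
  obtain ⟨s, hs⟩ := Cfsg.Agent.KFacts.MulLift.exists_lift_of_noDouble commutator_McL hM ι hd
  have h1 : TL π ≤ (s.comp emb).range := by
    unfold TL
    rw [commutator_le]
    intro x hx y hy
    obtain ⟨σ, hσ⟩ := (show π x ∈ (ι.comp emb).range from hx)
    obtain ⟨τ, hτ⟩ := (show π y ∈ (ι.comp emb).range from hy)
    refine ⟨⁅σ, τ⁆, ?_⟩
    rw [map_commutatorElement]
    symm
    apply UniqueCover.comm_eq (ker_le (ext_of_dbl hd))
    · rw [← hσ]; exact (hs _).symm
    · rw [← hτ]; exact (hs _).symm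
  intro hc
  obtain ⟨σ, hσ⟩ := h1 hc
  have h2 : π c = 1 := (hd.ker c).2 (Or.inr rfl)
  have h3 : ι (emb σ) = 1 := by
    rw [← hs, ← h2, ← hσ]; rfl
  have h4 : emb σ = 1 := by
    have : Function.Injective ι := Subgroup.inclusion_injective _
    exact this (by rw [h3, map_one])
  apply hd.ne
  rw [← hσ]
  show s (emb σ) = 1
  rw [h4, map_one]

/-- The product of the two groups. -/
def MM (H : Hat π t) : Subgroup L where
  carrier := {x | ∃ h ∈ HH t, ∃ s ∈ TL π, x = h * s}
  one_mem' := ⟨1, one_mem _, 1, one_mem _, by rw [mul_one]⟩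
  mul_mem' := by
    rintro _ _ ⟨h, hh, s, hs, rfl⟩ ⟨h', hh', s', hs', rfl⟩
    obtain ⟨σ, h1, h2, h3⟩ := mem_TT.1 (TL_le hs)
    exact ⟨h * (s * h' * s⁻¹), mul_mem hh (H.normal (Or.inl ⟨h1, h2⟩) h3 hh'), s * s', mul_mem hs hs', by group⟩
  inv_mem' := by
    rintro _ ⟨h, hh, s, hs, rfl⟩
    obtain ⟨σ, h1, h2, h3⟩ := mem_TT.1 (TL_le (inv_mem hs))
    refine ⟨s⁻¹ * h⁻¹ * s⁻¹⁻¹, H.normal (Or.inl ⟨h1, h2⟩) h3 (inv_mem hh), s⁻¹, inv_mem hs, by group⟩

theorem HH_le_MM (H : Hat π t) : HH t ≤ MM H := fun h hh => ⟨h, hh, 1, one_mem _, by rw [mul_one]⟩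

theorem TL_le_MM (H : Hat π t) : TL π ≤ MM H := fun s hs => ⟨1, one_mem _, s, hs, by rw [one_mul]⟩

theorem c_notMem_MM [Finite L] (hd : Dbl π c) (hM : NoDouble Spor.McL) (H : Hat π t) : c ∉ MM H := by
  rintro ⟨h, hh, s, hs, e⟩
  have h1 : π c = 1 := (hd.ker c).2 (Or.inr rfl)
  rw [e, map_mul] at h1
  obtain ⟨m, hm, hm'⟩ := H.map_HH_le (mem_map_of_mem π hh)
  obtain ⟨σ, -, -, hσ⟩ := mem_TT.1 (TL_le hs)
  have h2 : signCo0 (cd m) = permCo0 σ⁻¹ := by
    rw [map_inv, ← hσ, ← toCo0_ge hm]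
    show toCo0 (mo2 m idP) = _
    rw [← hm', ← map_inv]
    exact congrArg toCo0 (eq_inv_of_mul_eq_one_left h1)
  have h3 := inv_eq_one.1 (sign_perm_eq h2)
  have h4 : π s = 1 := toCo0_injective (by rw [hσ, h3, map_one, map_one])
  rw [h4, mul_one] at h1
  have h5 := H.ker (ext_of_dbl hd) hh h1
  rw [h5, one_mul] at e
  exact c_notMem_TL hd hM (e ▸ hs)

/-- conjugation of `TL` -/
theorem conj_TL {σ : M24} (hσ : Pr σ) {x s : L} (hx : toCo0 (π x) = permCo0 σ) (hs : s ∈ TL π) :
    x * s * x⁻¹ ∈ TL π := by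
  have h1 : UU π ≤ (UU π).comap (MulAut.conj x).toMonoidHom := by
    intro y hy
    obtain ⟨τ, h1, h2, h3⟩ := mem_TT.1 (show π y ∈ TT from hy)
    show π (x * y * x⁻¹) ∈ TT
    rw [mem_TT]
    refine ⟨σ * τ * σ⁻¹, ?_, ?_, ?_⟩
    · show (σ : Equiv.Perm GolayPt) ((τ : Equiv.Perm GolayPt) ((σ : Equiv.Perm GolayPt)⁻¹ none)) = none
      rcases hσ with ⟨e1, e2⟩ | ⟨e1, e2⟩
      · rw [Equiv.Perm.inv_eq_iff_eq.2 e1.symm, h1, e1]
      · rw [Equiv.Perm.inv_eq_iff_eq.2 e2.symm, h2, e2]
    · show (σ : Equiv.Perm GolayPt) ((τ : Equiv.Perm GolayPt) ((σ : Equiv.Perm GolayPt)⁻¹ (some 0))) = some 0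
      rcases hσ with ⟨e1, e2⟩ | ⟨e1, e2⟩
      · rw [Equiv.Perm.inv_eq_iff_eq.2 e2.symm, h2, e2]
      · rw [Equiv.Perm.inv_eq_iff_eq.2 e1.symm, h1, e1]
    · rw [map_mul, map_mul, map_mul, map_mul, map_inv, map_inv, hx, h3, map_mul, map_mul, map_inv]
  have h2 : TL π ≤ (TL π).comap (MulAut.conj x).toMonoidHom := by
    conv_lhs => unfold TL
    rw [commutator_le]
    intro a ha b hb
    show (MulAut.conj x) ⁅a, b⁆ ∈ TL π
    rw [map_commutatorElement]
    exact commutator_mem_commutator (h1 ha) (h1 hb)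
  exact h2 hs

/-- the preimage of the Sylow 2-subgroup -/
def PP (π : L →* Spor.Co2) : Subgroup L := T.comap π

theorem pr_of_okP {P : ℕ} (h : okP P = true) : Pr (el P) := by
  obtain ⟨h1, h2⟩ := okP_iff.1 h
  have e : ∀ p, (el P : Equiv.Perm GolayPt) p = pt (papp P (idx p)) := fun p => el_smul_pt h1 p
  have e1 : (el P : Equiv.Perm GolayPt) none = pt (papp P 23) := e none
  have e2 : (el P : Equiv.Perm GolayPt) (some 0) = pt (papp P 0) := e (some 0)
  rcases h2 with ⟨h3, h4⟩ | ⟨h3, h4⟩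
  · left
    rw [e1, e2, h3, h4]
    exact ⟨KFacts.CoTwo.Base.pt23, KFacts.CoTwo.Base.pt0⟩
  · right
    rw [e1, e2, h3, h4]
    exact ⟨KFacts.CoTwo.Base.pt0, KFacts.CoTwo.Base.pt23⟩

/-- decomposition -/
theorem exists_dec (H : Hat π t) {x : L} (hx : x ∈ PP π) :
    ∃ h ∈ HH t, ∃ y : L, ∃ P ∈ L22, x = h * y ∧ toCo0 (π y) = permCo0 (el P) := by
  obtain ⟨m, P, hm, hP, e⟩ := (show π x ∈ T from hx)
  obtain ⟨h, hh, hh'⟩ := H.E_le (mo2_mem_E hm)
  refine ⟨h, hh, h⁻¹ * x, P, hP, by group, ?_⟩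
  rw [map_mul, map_inv, hh', e, map_mul, map_inv, toCo0_mo2 hm okP_idP, toCo0_mo2 hm (okP_of_mem hP)]
  unfold mo
  rw [el_idP, map_one, mul_one, inv_mul_cancel_left]

theorem norm_MM (H : Hat π t) {x m : L} (hx : x ∈ PP π) (hm : m ∈ MM H) : x * m * x⁻¹ ∈ MM H := by
  obtain ⟨h, hh, y, P, hP, rfl, hy⟩ := exists_dec H hx
  obtain ⟨h', hh', s, hs, rfl⟩ := hm
  have hpr := pr_of_okP (okP_of_mem hP)
  have e : h * y * (h' * s) * (h * y)⁻¹ = h * ((y * h' * y⁻¹) * (y * s * y⁻¹)) * h⁻¹ := by group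
  rw [e]
  exact mul_mem (mul_mem (HH_le_MM H hh) (mul_mem (HH_le_MM H (H.normal hpr hy hh'))
    (TL_le_MM H (conj_TL hpr hy hs)))) (inv_mem (HH_le_MM H hh))

/-- elements over a permutation fixing the points -/
theorem mem_of_fix (hd : Dbl π c) (H : Hat π t) {x : L} {m P : ℕ} (hm : inE m = true) (hP : P ∈ L22)
    (e : π x = mo2 m P) (h1 : (el P : Equiv.Perm GolayPt) none = none) : ∃ y ∈ MM H, π x = π y := by
  have h2 : (el P : Equiv.Perm GolayPt) (some 0) = some 0 := by
    rcases pr_of_okP (okP_of_mem hP) with h | h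
    · exact h.2
    · rw [h.1] at h1; exact absurd h1 (by decide)
  obtain ⟨h, hh, hh'⟩ := H.E_le (mo2_mem_E hm)
  have h3 : mo2 0 P ∈ TT := mem_TT.2 ⟨el P, h1, h2, by
    rw [toCo0_mo2 inE_zero (okP_of_mem hP)]; unfold mo; rw [cd_zero, signCo0_zero, one_mul]⟩
  rw [← map_TL (ext_of_dbl hd)] at h3
  obtain ⟨s, hs, hs'⟩ := h3
  refine ⟨h * s, ⟨h, hh, s, hs, rfl⟩, ?_⟩
  rw [map_mul, hh', hs', e, mo2_mul_left hm inE_zero (okP_of_mem hP), Nat.xor_zero]

theorem comm_mem_of (hd : Dbl π c) (H : Hat π t) {x y : L} (hx : x ∈ PP π) (hy : y ∈ PP π)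
    (h : (∃ m ∈ MM H, π x = π m) ∨ (∃ m ∈ MM H, π y = π m) ∨ ∃ m ∈ MM H, π (x * y⁻¹) = π m) :
    ⁅x, y⁆ ∈ MM H := by
  have hk := ker_le (ext_of_dbl hd)
  rcases h with ⟨m, hm, e⟩ | ⟨m, hm, e⟩ | ⟨m, hm, e⟩
  · rw [UniqueCover.comm_eq hk e (rfl : π y = π y), commutatorElement_def]
    have e2 : m * y * m⁻¹ * y⁻¹ = m * (y * m⁻¹ * y⁻¹) := by group
    rw [e2]
    exact mul_mem hm (norm_MM H hy (inv_mem hm))
  · rw [UniqueCover.comm_eq hk (rfl : π x = π x) e, commutatorElement_def]
    exact mul_mem (norm_MM H hx hm) (inv_mem hm)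
  · have e3 : π x = π (m * y) := by
      rw [map_mul, ← e, ← map_mul, inv_mul_cancel_right]
    rw [UniqueCover.comm_eq hk e3 (rfl : π y = π y), commutatorElement_def]
    have e2 : m * y * y * (m * y)⁻¹ * y⁻¹ = m * (y * m⁻¹ * y⁻¹) := by group
    rw [e2]
    exact mul_mem hm (norm_MM H hy (inv_mem hm))

theorem comm_le (hd : Dbl π c) (H : Hat π t) : ⁅PP π, PP π⁆ ≤ MM H := by
  rw [commutator_le]
  intro x hx y hy
  apply comm_mem_of hd H hx hy
  obtain ⟨m, P, hm, hP, e⟩ := (show π x ∈ T from hx)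
  obtain ⟨n, Q, hn, hQ, f⟩ := (show π y ∈ T from hy)
  rcases pr_of_okP (okP_of_mem hP) with h1 | h1
  · exact Or.inl (mem_of_fix hd H hm hP e h1.1)
  rcases pr_of_okP (okP_of_mem hQ) with h2 | h2
  · exact Or.inr (Or.inl (mem_of_fix hd H hn hQ f h2.1))
  right; right
  obtain ⟨k, R, hk, hR, g⟩ := (show π (x * y⁻¹) ∈ T from mul_mem hx (inv_mem hy))
  refine mem_of_fix hd H hk hR g ?_
  have h3 : mo2 k R * mo2 n Q = mo2 m P := by
    rw [← g, ← f, ← e, ← map_mul, inv_mul_cancel_right]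
  rw [mo2_mul hk hn (okP_of_mem hR) (okP_of_mem hQ)] at h3
  have h4 := congrArg toCo0 h3
  rw [toCo0_mo2 (inE_xor hk (inE_pimg (okP_of_mem hR) hn)) (okP_of_mem (pcomp_mem hR hQ)),
    toCo0_mo2 hm (okP_of_mem hP)] at h4
  have h5 := (mo_inj (isCode_of_inE (inE_xor hk (inE_pimg (okP_of_mem hR) hn))) (isCode_of_inE hm) h4).2
  rw [el_pcomp (ok_of_mem hR) (ok_of_mem hQ)] at h5
  have h6 : (el R : Equiv.Perm GolayPt) ((el Q : Equiv.Perm GolayPt) (some 0)) = (el P : Equiv.Perm GolayPt) (some 0) := by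
    rw [← h5]; rfl
  rw [h2.2, h1.2] at h6
  exact h6

theorem index_T : T.index = 161382375 := by
  have h1 := T.card_mul_index
  rw [Cfsg.Agent.Co2Type.TCard.card_T, Cfsg.Agent.Co2Type.CardCo2.card_co2] at h1
  omega

end

/-- **`Co2` has no perfect double cover.** -/
theorem noDouble (hM : NoDouble Spor.McL) : NoDouble Spor.Co2 := by
  intro L _ _ π c hd
  obtain ⟨t, H⟩ := exists_hat (ext_of_dbl hd)
  have hcP : c ∈ PP π := by
    show π c ∈ T
    rw [(hd.ker c).2 (Or.inr rfl)]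
    exact one_mem _
  have hidx : ¬ 2 ∣ (PP π).index := by
    unfold PP
    rw [index_comap_of_surjective _ hd.surj, index_T]
    norm_num
  have h1 := hd.toCtr.hom_eq_one hcP hidx (Abelianization.of (G := PP π))
  have h2 : (⟨c, hcP⟩ : PP π) ∈ commutator (PP π) := by
    rw [← Abelianization.ker_of]
    exact h1
  apply c_notMem_MM hd hM H
  apply comm_le hd H
  rw [← Subgroup.map_subtype_commutator]
  exact ⟨_, h2, rfl⟩

end Cfsg.Agent.KFacts.MulY.CoTwo

end
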